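import Cfsg.Agent.Lib.Local.RootParabolic.Frame
import Cfsg.Agent.Lib.Local.EquivQuadratic.Core
import Cfsg.Agent.Lib.Fusion.Cores

/-!
# A component as a connected quadratic pair
-/

set_option autoImplicit false
set_option linter.unusedSectionVars false
set_option linter.unusedVariables false

namespace Cfsg.Agent.EquivParabolic

open Cfsg Cfsg.Agent.Lead.QP Cfsg.Agent.EquivQuad Cfsg.Agent.RootParabolic

variable {p : ℕ} [Fact p.Prime] {M : Type} [AddCommGroup M] [Module (ZMod p) M] [Module.Finite (ZMod p) M]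

local notation "k" => ZMod p
local notation "End'" => Module.End k M
local notation "GL'" => LinearMap.GeneralLinearGroup k M

variable {G : Subgroup (LinearMap.GeneralLinearGroup (ZMod p) M)} {d : ℕ} {a b : Module.End (ZMod p) M}

theorem commute_units {g h : GL'} (e : (g : End') * h = h * g) : g * h = h * g := Units.ext e

theorem cj_eq_of_commute {g : GL'} {x : End'} (h : Commute (g : End') x) : cj g x = x := by
  rw [cj_apply, h.eq, mul_assoc, ← Units.val_mul, mul_inv_cancel, Units.val_one, mul_one]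

/-- A central element of `p`-power order is trivial when the largest normal `p`-subgroup is. -/
theorem eq_one_of_central {H : Subgroup GL'} (hcore : pCore p H = ⊥) {g : GL'} (hg : g ∈ H)
    (hp : ∃ j : ℕ, g ^ p ^ j = 1) (hc : ∀ x ∈ H, x * g = g * x) : g = 1 := by
  have hN : (Subgroup.zpowers (⟨g, hg⟩ : H)).Normal := ⟨fun x hx y => by
    obtain ⟨i, rfl⟩ := Subgroup.mem_zpowers_iff.1 hx
    have hcm : Commute y ((⟨g, hg⟩ : H) ^ i) := (show Commute y ⟨g, hg⟩ from
      Subtype.ext (hc y y.2)).zpow_right i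
    rw [hcm.eq, mul_inv_cancel_right]
    exact ⟨i, rfl⟩⟩
  have hP : IsPGroup p (Subgroup.zpowers (⟨g, hg⟩ : H)) := by
    obtain ⟨j, hj⟩ := hp
    rintro ⟨x, i, rfl⟩
    refine ⟨j, Subtype.ext ?_⟩
    change ((⟨g, hg⟩ : H) ^ i) ^ p ^ j = 1
    rw [← zpow_natCast, ← zpow_mul, mul_comm, zpow_mul, zpow_natCast,
      show (⟨g, hg⟩ : H) ^ p ^ j = 1 from Subtype.ext hj, one_zpow]
  have h1 := Fusion.le_pCore (N := Subgroup.zpowers (⟨g, hg⟩ : H)) hP (Subgroup.mem_zpowers _)
  rw [hcore, Subgroup.mem_bot] at h1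
  exact congrArg Subtype.val h1

section Transfer

variable (hs : QS G d) (hpa : Partners G d) (ha : Qd G d a)
include hs hpa ha

theorem rt_GP {c x : End'} (hc : Con G d a c) (hx : x ∈ Rt G c) : InFam (GP G d a) x := fun r => by
  obtain ⟨g, hg, hv⟩ := exists_mem_Rg (Submodule.smul_mem _ r hx)
  exact ⟨g, Rg_le_GP hc hg, hv⟩

theorem qd_GP {c : End'} (hc : Con G d a c) : Qd (GP G d a) d c :=
  let h := hc.qd ha
  ⟨h.sq, h.ne, rt_GP hs hpa ha hc h.self_mem, h.rank⟩

theorem qd_of_GP {c : End'} (hc : Qd (GP G d a) d c) : Qd G d c :=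
  ⟨hc.sq, hc.ne, hc.mem.mono (GP_le_self a), hc.rank⟩

theorem con_GP {c : End'} (hc : Con G d a c) : Con (GP G d a) d a c := by
  induction hc with
  | refl => exact Relation.ReflTransGen.refl
  | tail h1 h2 ih => exact ih.tail ⟨qd_GP hs hpa ha h1, qd_GP hs hpa ha (h1.tail h2), h2.2.2⟩

theorem GP_GP : GP (GP G d a) d a = GP G d a := by
  refine le_antisymm (GP_le_self a) (GP_le fun c hc g hg => ?_)
  refine Rg_le_GP (con_GP hs hpa ha hc) ?_
  rw [mem_Rg] at hg ⊢
  exact mem_Rt (Rt_ker hg) (Rt_range hg) (hc.qd ha).sq (rt_GP hs hpa ha hc hg)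

theorem partners_GP (hcore : pCore p (GP G d a) = ⊥) : Partners (GP G d a) d := by
  intro c hc
  have qc := qd_of_GP hs hpa ha hc
  have hcon : Con G d a c := by
    by_contra hn
    obtain ⟨g, hg, hv⟩ := hc.mem 1
    rw [one_smul] at hv
    refine hc.ne (add_eq_left.1 (hv.symm.trans ?_))
    rw [eq_one_of_central hcore hg ?_ ?_, Units.val_one]
    · have hgR : g ∈ flagOf G c := ⟨GP_le_self a hg, EquivQuad.mem_flag.2
        ⟨fun v => by simp [hv, show c (c v) = 0 from LinearMap.congr_fun hc.sq v],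
          fun v hv' => by simp [hv, LinearMap.mem_ker.1 hv'],
          fun v hv' => by
            obtain ⟨w, rfl⟩ := hv'
            simp [hv, show c (c w) = 0 from LinearMap.congr_fun hc.sq w]⟩⟩
      obtain ⟨j, hj⟩ := flagOf_pGroup G c ⟨g, hgR⟩
      exact ⟨j, congrArg Subtype.val hj⟩
    · intro x hx
      have hle : GP G d a ≤ Subgroup.centralizer ({g} : Set GL') := GP_le fun e he f hf => by
        rw [Subgroup.mem_centralizer_singleton_iff]
        have h1 := comm_of_not_con hs hpa (he.qd ha) qc (fun h => hn (he.trans h)) _ (mem_Rg.1 hf) _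
          qc.self_mem
        refine commute_units ?_
        simp only [sub_mul, mul_sub, one_mul, mul_one] at h1
        rw [hv]
        simp only [mul_add, add_mul, one_mul, mul_one]
        linear_combination (norm := abel) h1
      exact Subgroup.mem_centralizer_singleton_iff.1 (hle hx)
  obtain ⟨e, he, ho⟩ := hpa c qc
  exact ⟨e, qd_GP hs hpa ha (hcon.trans (Con.of_opp qc he ho)), ho⟩

/-- The frame of a pair in a component. -/
theorem frame_GP (h3 : (3 : k) ≠ 0) (hcore : pCore p (GP G d a) = ⊥) (hb : Qd G d b) (hab : IsPair a b)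
    (hss : ∀ W : Submodule k M, (∀ g ∈ GP G d a, ∀ v ∈ W, (g : End') v ∈ W) →
      ∃ W' : Submodule k M, (∀ g ∈ GP G d a, ∀ v ∈ W', (g : End') v ∈ W') ∧ IsCompl W W') :
    Frame (GP G d a) d a b where
  hs := ⟨hs.dick, hs.h2, hs.h3, fun x hx hx0 hm => hs.min x hx hx0 (hm.mono (GP_le_self a))⟩
  ha := qd_GP hs hpa ha Relation.ReflTransGen.refl
  hb := qd_GP hs hpa ha (Con.of_opp ha hb (opp_of_pair hs ha hb hab))
  hp := hab
  hpa := partners_GP hs hpa ha hcore
  hgen := GP_GP hs hpa ha
  hss := hss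
  h3 := h3

end Transfer

/-- A normaliser of a root space normalises its flag group. -/
theorem flag_conj_rt (hs : QS G d) (ha : Qd G d a) {g : GL'} (hg : g ∈ G) (hga : cj g a ∈ Rt G a) {u : GL'}
    (hu : u ∈ flagOf G a) : g * u * g⁻¹ ∈ flagOf G a := by
  obtain ⟨-, hr, hk⟩ := Rt_qd hs ha hga ((ha.cj (Subgroup.le_normalizer hg)).ne)
  rw [range_cj] at hr
  rw [ker_cj] at hk
  refine ⟨G.mul_mem (G.mul_mem hg hu.1) (G.inv_mem hg), EquivQuad.mem_flag.2 ?_⟩
  obtain ⟨h1, h2, h3⟩ := EquivQuad.mem_flag.1 hu.2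
  have hgi : ∀ v, (g : End') (((g⁻¹ : GL') : End') v) = v := fun v => by
    rw [← Module.End.mul_apply, ← Units.val_mul, mul_inv_cancel]; rfl
  have hig : ∀ v, ((g⁻¹ : GL') : End') ((g : End') v) = v := fun v => by
    rw [← Module.End.mul_apply, ← Units.val_mul, inv_mul_cancel]; rfl
  have e : ∀ v, ((g * u * g⁻¹ : GL') : End') v - v =
      (g : End') ((u : End') (((g⁻¹ : GL') : End') v) - ((g⁻¹ : GL') : End') v) := fun v => by
    rw [map_sub, hgi]; rfl
  refine ⟨fun v => ?_, fun v hv => ?_, fun v hv => sub_eq_zero.1 ?_⟩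
  · rw [← hk, Submodule.mem_comap, e, hig]; exact h1 _
  · rw [e, ← hr]
    exact Submodule.mem_map_of_mem (h2 _ (by rw [← hk] at hv; exact hv))
  · rw [← hr] at hv
    obtain ⟨w, hw, rfl⟩ := hv
    rw [e, hig, h3 w hw, sub_self, map_zero]

variable (F : Frame G d a b)
include F

theorem u1_mem_sup {x : End'} (hx : x ∈ Rt G a) (hxx : x * x = 0) : u1 x hxx ∈ flagOf G a := by
  obtain ⟨g, hg, hv⟩ := F.exists_flag F.inU_zero hx
  rwa [show u1 x hxx = g from Units.ext (by simp [hv, RootParabolic.hsq])]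

/-- A component is generated by a flag group and an opposite root group. -/
theorem eq_flag_sup : flagOf G a ⊔ Rg G b = G := by
  refine le_antisymm (sup_le inf_le_left (Rg_le b)) ?_
  set H := flagOf G a ⊔ Rg G b with hH
  conv_lhs => rw [← F.hgen]
  have hn : G ≤ Subgroup.normalizer (G : Set GL') := Subgroup.le_normalizer
  have hA : Rg G a ≤ H := fun g hg => by
    refine Subgroup.mem_sup_left ?_
    have := u1_mem_sup F (mem_Rg.1 hg) (Rt_mul (mem_Rg.1 hg) (mem_Rg.1 hg))
    rwa [show u1 ((g : End') - 1) _ = g from Units.ext (by simp)] at this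
  have hsw : swap F.hp ∈ H :=
    swap_mem F.hp (Subgroup.mem_sup_left (u1_mem_sup F F.ha.self_mem F.hp.xx))
      (Subgroup.mem_sup_right (by rw [mem_Rg, u1_val, add_sub_cancel_left]; exact F.hb.self_mem))
  have key : ∀ c, Con G d a c → ∃ g ∈ H, cj g a ∈ Rt G c := by
    intro c hc
    induction hc with
    | refl => exact ⟨1, one_mem _, by rw [cj_one]; exact F.ha.self_mem⟩
    | @tail c e h1 h2 ih =>
      obtain ⟨g, hg, hga⟩ := ih
      have hgG : g ∈ G := (sup_le inf_le_left (Rg_le b) : H ≤ G) hg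
      have hq : Qd G d (cj g⁻¹ e) := h2.2.1.cj (hn (inv_mem hgG))
      have ho : Opp a (cj g⁻¹ e) := by
        have := opp_cj (Opp.of_mem F.hs h2.2.2 h2.1 h2.2.1 hga h2.2.1.self_mem
          (F.ha.cj (hn hgG)).ne h2.2.1.ne) g⁻¹
        rwa [cj_inv] at this
      obtain ⟨y, hy, qy, -, e1, e2⟩ := F.hs.inverse F.ha hq ho
      obtain ⟨u, hu, huy⟩ := inverse_transitive F.hs.h2 F.h3 F.ha F.hb qy F.hp ⟨F.ha.sq, qy.sq, e1, e2⟩
      refine ⟨g * u * swap F.hp, mul_mem (mul_mem hg (Subgroup.mem_sup_left hu)) hsw, ?_⟩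
      rw [← cj_comp, ← cj_comp, swap_cj_self, huy]
      have := cj_mem_Rt hq.sq hy (hn hgG)
      rwa [cj_comp, mul_inv_cancel, cj_one] at this
  refine GP_le fun c hc => ?_
  obtain ⟨g, hg, hga⟩ := key c hc
  have hgG : g ∈ G := (sup_le inf_le_left (Rg_le b) : H ≤ G) hg
  have e : Rg G c = conjBy (Rg G a) g := by
    rw [conjBy_Rg F.ha.sq (hn hgG),
      Rg_congr (Rt_eq_of_mem F.hs (hc.qd F.ha) hga (F.ha.cj (hn hgG)).ne).symm]
  rw [e]
  rintro _ ⟨x, hx, rfl⟩
  exact mul_mem (mul_mem hg (hA hx)) (inv_mem hg)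

/-- A `p`-element fixing the root space and commuting with the flag group lies in the root group. -/
theorem center_le_root (hfc : ∀ u ∈ flagOf G a, (∀ v ∈ flagOf G a, u * v = v * u) → u ∈ Rg G a)
    (hcore : pCore p G = ⊥) {z : GL'} (hz : z ∈ G) (hzp : ∃ j : ℕ, z ^ p ^ j = 1)
    (hzc : ∀ v ∈ flagOf G a, z * v = v * z) : z ∈ Rg G a := by
  have hn : G ≤ Subgroup.normalizer (G : Set GL') := Subgroup.le_normalizer
  have hua := u1_mem_sup F F.ha.self_mem F.ha.sq
  have hza : cj z a = a := cj_eq_of_commute (by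
    have := congrArg (fun g : GL' => (g : End')) (hzc _ hua)
    simp only [Units.val_mul, u1_val, mul_add, add_mul, one_mul, mul_one] at this
    exact add_left_cancel this)
  obtain ⟨u, hu, huy⟩ := inverse_transitive F.hs.h2 F.h3 F.ha F.hb (F.hb.cj (hn hz)) F.hp
    ⟨F.ha.sq, by rw [← cj_mul, F.hp.yy, map_zero],
      by conv_lhs => rw [← hza]
         rw [← cj_mul, ← cj_mul, F.hp.xyx, map_neg, hza],
      by conv_lhs => rw [← hza]
         rw [← cj_mul, ← cj_mul, F.hp.yxy, map_neg]⟩
  set l := u⁻¹ * z with hl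
  have hlG : l ∈ G := mul_mem (inv_mem hu.1) hz
  have la : cj l a = a := by
    rw [hl, ← cj_comp, hza]
    conv_lhs => rw [← flagOf_fix hu]
    rw [cj_inv]
  have lb : cj l b = b := by rw [hl, ← cj_comp, ← huy, cj_inv]
  have lp : cj l (e₁ a b) = e₁ a b := by rw [e₁, map_neg, cj_mul, la, lb]
  have lm : cj l (e₁ b a) = e₁ b a := by rw [e₁, map_neg, cj_mul, la, lb]
  have hlL : l ∈ Levi G a b := ⟨hlG, commute_of_cj lp, commute_of_cj lm⟩
  -- the element centralises the flag group
  have hlv : ∀ v ∈ flagOf G a, l * v = v * l := by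
    intro v hv
    obtain ⟨w, τ, hw, hτ, ev⟩ := F.exists_decomp hv
    obtain ⟨w', τ', hw', hτ', eu⟩ := F.exists_decomp hu
    have hzu : z * v = v * z := hzc v hv
    have hrel : v * u = u * (l * v * l⁻¹) := by
      rw [hl]
      calc v * u = v * z * z⁻¹ * u := by group
        _ = z * v * z⁻¹ * u := by rw [hzu]
        _ = _ := by group
    have wl := F.levi_inU hlL hw
    have τl := F.levi_rt hlL hτ
    have elv : ((l * v * l⁻¹ : GL') : End') = 1 + cj l w + hsq (cj l w) + cj l τ := by
      rw [Units.val_mul, Units.val_mul, ev, RootParabolic.hsq, RootParabolic.hsq, ← cj_mul, ← map_smul]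
      simp only [cj_apply, mul_add, add_mul, mul_one, ← Units.val_mul, mul_inv_cancel, Units.val_one]
    have h := congrArg (fun g : GL' => (g : End')) hrel
    simp only [Units.val_mul v u, Units.val_mul u (l * v * l⁻¹), ev, eu, elv] at h
    -- corners
    have z0 : ∀ X : End', e₁ a b * X = X → e₀ a b * X = 0 := fun X hX => by
      rw [← hX, ← mul_assoc, F.op, zero_mul]
    have z1 : ∀ X : End', X * e₁ b a = X → X * e₀ a b = 0 := fun X hX => by
      rw [← hX, mul_assoc, F.mo, mul_zero]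
    have sl : ∀ {x y : End'}, InU G a b x → y ∈ Rt G a →
        e₀ a b * (1 + x + hsq x + y) = e₀ a b + e₀ a b * x := fun {x y} hx hy => by
      rw [mul_add, mul_add, mul_add, mul_one, z0 _ (F.hsq_left hx.1), z0 _ (F.rt_left hy)]; abel
    have sr : ∀ {x y : End'}, InU G a b x → y ∈ Rt G a →
        (1 + x + hsq x + y) * e₀ a b = e₀ a b + x * e₀ a b := fun {x y} hx hy => by
      rw [add_mul, add_mul, add_mul, one_mul, z1 _ (F.hsq_right hx.1), z1 _ (F.rt_right hy)]; abel
    have cl : ∀ {x x' y y' : End'}, InU G a b x → InU G a b x' → y ∈ Rt G a → y' ∈ Rt G a →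
        e₀ a b * ((1 + x + hsq x + y) * (1 + x' + hsq x' + y')) = e₀ a b + e₀ a b * x' + e₀ a b * x ∧
          (1 + x + hsq x + y) * (1 + x' + hsq x' + y') * e₀ a b = e₀ a b + x' * e₀ a b + x * e₀ a b := by
      intro x x' y y' hx hx' hy hy'
      constructor
      · rw [← mul_assoc, sl hx hy, add_mul, sl hx' hy']
        have e1 : x * hsq x' = 0 := F.wt_corner_left hx.1 (F.hsq_left hx'.1)
        have e2 : x * y' = 0 := F.wt_corner_left hx.1 (F.rt_left hy')
        have e3 : e₀ a b * (x * x') = 0 := z0 _ (F.mul_left_corner hx.1 hx'.1)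
        simp only [mul_assoc, mul_add, mul_one, e1, e2, e3, mul_zero, add_zero]
      · rw [mul_assoc, sr hx' hy', mul_add, sr hx hy]
        have e1 : hsq x * x' = 0 := F.wt_corner_right hx'.1 (F.hsq_right hx.1)
        have e2 : y * x' = 0 := F.wt_corner_right hx'.1 (F.rt_right hy)
        have e3 : x * x' * e₀ a b = 0 := z1 _ (F.mul_right_corner hx.1 hx'.1)
        simp only [← mul_assoc, add_mul, one_mul, e1, e2, e3, zero_mul, add_zero]
        abel
    have h1 := congrArg (fun s => e₀ a b * s) h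
    have h2 := congrArg (fun s => s * e₀ a b) h
    simp only [(cl hw hw' hτ hτ').1, (cl hw' wl hτ' τl).1] at h1
    simp only [(cl hw hw' hτ hτ').2, (cl hw' wl hτ' τl).2] at h2
    have k1 : e₀ a b * cj l w = e₀ a b * w := by linear_combination (norm := abel) -h1
    have k2 : cj l w * e₀ a b = w * e₀ a b := by linear_combination (norm := abel) -h2
    have kw : cj l w = w := by
      have := wl.1
      rw [RootParabolic.Wt, k1, mul_assoc (e₁ a b), k2, ← mul_assoc] at this
      exact this.symm.trans hw.1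
    have kτ : cj l τ = τ := by
      by_cases h0 : τ = 0
      · rw [h0, map_zero]
      obtain ⟨qτ, rτ, kτ'⟩ := Rt_qd F.hs F.ha hτ h0
      have hzτ : cj z τ = τ := cj_eq_of_commute (by
        have := congrArg (fun g : GL' => (g : End')) (hzc _ (u1_mem_sup F hτ qτ.sq))
        simp only [Units.val_mul, u1_val, mul_add, add_mul, one_mul, mul_one] at this
        exact add_left_cancel this)
      have huτ : cj u τ = τ := flagOf_fix (x := τ) (show u ∈ flagOf G τ from
        ⟨hu.1, by rw [kτ', rτ]; exact hu.2⟩)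
      rw [hl, ← cj_comp, hzτ]
      conv_lhs => rw [← huτ]
      rw [cj_inv]
    rw [kw, kτ, ← ev] at elv
    exact mul_inv_eq_iff_eq_mul.1 (Units.ext elv)
  have huc : ∀ v ∈ flagOf G a, u * v = v * u := fun v hv => by
    rw [show u = z * l⁻¹ by rw [hl]; group]
    exact ((show Commute z v from hzc v hv).mul_left (show Commute l v from hlv v hv).inv_left).eq
  have huA := hfc u hu huc
  have hlb : Rg G b ≤ Subgroup.centralizer ({l} : Set GL') := fun f hf => by
    rw [Subgroup.mem_centralizer_singleton_iff]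
    refine commute_units ?_
    have hc := mem_Rg.1 hf
    suffices hcc : cj l ((f : End') - 1) = (f : End') - 1 by
      have := (commute_of_cj hcc).eq
      simp only [mul_sub, sub_mul, one_mul, mul_one, sub_left_inj] at this
      exact this.symm
    by_cases h0 : (f : End') - 1 = 0
    · rw [h0, map_zero]
    obtain ⟨x, hx, -, -, -, ecx, exc⟩ := F.symm.rt_inverse hc h0
    have hlx : cj l x = x := cj_eq_of_commute (by
      have := congrArg (fun g : GL' => (g : End')) (hlv _ (u1_mem_sup F hx (Rt_mul hx hx)))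
      simp only [Units.val_mul, u1_val, mul_add, add_mul, one_mul, mul_one] at this
      exact add_left_cancel this)
    have hc' : cj l ((f : End') - 1) ∈ Rt G b := F.symm.levi_rt (Frame.levi_symm F hlL) hc
    have h4 : x * cj l ((f : End') - 1) = -e₁ a b := by
      conv_lhs => rw [← hlx]
      rw [← cj_mul, exc, map_neg, lp]
    calc cj l ((f : End') - 1) = -(((f : End') - 1) * x) * cj l ((f : End') - 1) := by
          rw [ecx, neg_neg, F.rb_left hc']
      _ = ((f : End') - 1) * e₁ a b := by rw [neg_mul, mul_assoc, h4, mul_neg, neg_neg]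
      _ = _ := F.rb_right hc
  have hcen : G ≤ Subgroup.centralizer ({l} : Set GL') := by
    conv_lhs => rw [← eq_flag_sup F]
    exact sup_le (fun v hv => Subgroup.mem_centralizer_singleton_iff.2 (hlv v hv).symm) hlb
  have hl1 : l = 1 := by
    refine eq_one_of_central hcore hlG ?_ fun x hx => Subgroup.mem_centralizer_singleton_iff.1 (hcen hx)
    obtain ⟨i, hi⟩ := hzp
    obtain ⟨j, hj⟩ := flagOf_pGroup G a ⟨u, hu⟩
    have hu' : u ^ p ^ j = 1 := congrArg Subtype.val hj
    refine ⟨i + j, ?_⟩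
    have hc : Commute u⁻¹ z := (show Commute z u from hzc u hu).symm.inv_left
    rw [hl, hc.mul_pow, inv_pow]
    have e1 : u ^ p ^ (i + j) = 1 := by rw [add_comm, pow_add, pow_mul, hu', one_pow]
    have e2 : z ^ p ^ (i + j) = 1 := by rw [pow_add, pow_mul, hi, one_pow]
    rw [e1, e2, inv_one, one_mul]
  rw [hl, inv_mul_eq_one] at hl1
  exact hl1 ▸ huA

end Cfsg.Agent.EquivParabolic
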