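import Cfsg.Agent.Lib.Local.EquivParabolic.Statement
import Cfsg.Agent.Lib.Local.EquivStable
import Cfsg.Agent.Lib.Fusion.KInfWitness
import Cfsg.Agent.Lib.Fusion.NotStable
import Cfsg.Agent.Lib.Fusion.Sections
import Cfsg.Agent.Lib.Solv.Component

/-!
# The group half of the equivariant K-infinity theorem
-/

set_option autoImplicit false
set_option linter.unusedSectionVars false
set_option linter.style.haveILetI false

open scoped commutatorElement Pointwise

universe u

namespace Cfsg.Agent.EquivParabolic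

open Cfsg Cfsg.Agent.Fusion Cfsg.Agent.EquivZJ

section Variant

variable {G : Type u} [Group G] [Finite G] {p : ℕ} [hp : Fact p.Prime]

/-- The K-infinity subgroup of any subgroup containing the core, in the absence of witnesses. -/
theorem kInfLower_normal_of_core_le {S : Subgroup G} (hTS : pCore p G ≤ S) {A : Subgroup G}
    (hA : CriticalIn p A) (hno : ∀ g, ¬ KWitness p S A g) :
    (inducedFunctor kInfLower S).Normal := by
  set T := pCore p G
  have hAS : A ≤ S := hA.le.trans hTS
  have hf : Function.Injective S.subtype := S.subtype_injective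
  set A₀ := A.subgroupOf S
  have hA₀ : A₀.map S.subtype = A := Subgroup.map_subgroupOf_eq_of_le hAS
  have hE : ∀ n, A₀ ≤ kSeqOdd S n →
      (kSeqEven S n).map S.subtype ≤ T ∧ A₀ ≤ kSeqEven S n := by
    intro n hn
    have hR : A ≤ (kSeqOdd S n).map S.subtype := hA₀ ▸ Subgroup.map_mono hn
    refine ⟨?_, le_sSup ?_⟩
    · rw [Subgroup.map_le_iff_le_comap]
      refine sSup_le fun B hB => Subgroup.map_le_iff_le_comap.1 ?_
      by_contra hBT
      obtain ⟨g, hg⟩ := hA.lower_member (Subgroup.map_subtype_le B) hR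
        ((lower_map_iff S.subtype hf).2 hB) hBT
      exact hno g hg
    · rw [← lower_map_iff S.subtype hf, hA₀]
      exact hA.mem_lower (Subgroup.map_subtype_le _) hno
  have hO : ∀ n, A₀ ≤ kSeqOdd S n := by
    intro n
    induction n with
    | zero => exact le_top
    | succ n ih =>
      rw [kSeqOdd_succ]
      refine le_sSup ?_
      rw [← upper_map_iff S.subtype hf, hA₀]
      exact hA.mem_upper (hE n ih).1
  have hU : ∀ n, (kSeqOdd S (n + 1)).map S.subtype ≤ T := by
    intro n
    rw [kSeqOdd_succ, Subgroup.map_le_iff_le_comap]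
    refine sSup_le fun B hB => Subgroup.map_le_iff_le_comap.1 ?_
    by_contra hBT
    obtain ⟨g, hg⟩ := hA.upper_member (Subgroup.map_subtype_le B)
      (hA₀ ▸ Subgroup.map_mono (hE n (hO n)).2) ((upper_map_iff S.subtype hf).2 hB) hBT
    exact hno g hg
  set f := Subgroup.inclusion hTS
  have hrange : ∀ X : Subgroup S, X.map S.subtype ≤ T → X ≤ f.range := fun X hX x hx =>
    ⟨⟨x, hX ⟨x, hx, rfl⟩⟩, Subtype.ext rfl⟩
  obtain ⟨hlo, hup⟩ := map_kInf_of_le f (Subgroup.inclusion_injective hTS)
    (fun n => ⟨hrange _ (hE n (hO n)).1, hrange _ (hU n)⟩)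
  have hsub : S.subtype.comp f = T.subtype := rfl
  have hTp : IsPGroup p T := isPGroup_pCore p G
  show ((kInfLower S).map S.subtype).Normal
  rw [← hlo, Subgroup.map_map, hsub]
  haveI : (kInfLower T).Characteristic := Subgroup.characteristic_iff_map_eq.2 fun e =>
    (isCharPFunctor_kInfLower p).2 T T hTp e
  exact ConjAct.normal_of_characteristic_of_normal

end Variant

section Linear

variable {p : ℕ} [hp : Fact p.Prime]

/-- A quadratic element of a minimal normal `p`-subgroup that lies in every conjugate of an invariant Sylow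
subgroup by a fixed point centralises it. -/
theorem centralizes_minimal (hI : LinearCore p) {Γ : Type u} [Group Γ] [Finite Γ]
    {Δ : Type u} [Group Δ] [Finite Δ] (π : Δ →* Γ) (hπ : Function.Surjective π) (G A : Subgroup Δ) [G.Normal]
    (hco : (Nat.card A).Coprime (Nat.card G))
    {V : Subgroup Γ} [V.Normal] (hV : IsPGroup p V)
    (hmin : ∀ N : Subgroup Γ, N.Normal → N ≤ V → N = ⊥ ∨ N = V) {g : Δ}
    (hq : ∀ v ∈ V, ⁅⁅v, π g⁆, π g⁆ = 1)
    (hsyl : ∀ S : Subgroup Δ, Solv.IsSylIn p S G → A ≤ Subgroup.normalizer (S : Set Δ) → g ∈ S) :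
    π g ∈ Subgroup.centralizer (V : Set Γ) := by
  classical
  obtain ⟨hcomm, hexp⟩ := isElementaryAbelian_of_minimal hV hmin
  letI : CommGroup V := { (V.toGroup : Group V) with mul_comm := fun a b => hcomm.1.1 a b }
  have hsmul : ∀ m : Additive V, p • m = 0 := fun m =>
    congrArg Additive.ofMul (Subtype.ext (hexp _ (Additive.toMul m).2) :
      (Additive.toMul m) ^ p = 1)
  have : Module (ZMod p) (Additive V) := AddCommGroup.zmodModule hsmul
  have : Module.Finite (ZMod p) (Additive V) := Module.Finite.of_finite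
  let e : Additive V ≃ₗ[ZMod p] (Fin (Module.finrank (ZMod p) (Additive V)) → ZMod p) :=
    (Module.finBasis (ZMod p) (Additive V)).equivFun
  have : Finite (Module.End (ZMod p) (Fin (Module.finrank (ZMod p) (Additive V)) → ZMod p)) :=
    Finite.of_injective (fun f => (f : (Fin (Module.finrank (ZMod p) (Additive V)) → ZMod p) →
      (Fin (Module.finrank (ZMod p) (Additive V)) → ZMod p))) DFunLike.coe_injective
  have : Finite (LinearMap.GeneralLinearGroup (ZMod p) (Fin (Module.finrank (ZMod p) (Additive V)) → ZMod p)) :=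
    inferInstanceAs (Finite (Module.End (ZMod p) (Fin (Module.finrank (ZMod p) (Additive V)) → ZMod p))ˣ)
  let cj : Γ → (Additive V →ₗ[ZMod p] Additive V) := fun x =>
    (MonoidHom.toAdditive (MulAut.conjNormal (H := V) x).toMonoidHom).toZModLinearMap p
  let act : Γ →* Module.End (ZMod p) (Fin (Module.finrank (ZMod p) (Additive V)) → ZMod p) :=
    { toFun := fun x => e.toLinearMap.comp ((cj x).comp e.symm.toLinearMap)
      map_one' := LinearMap.ext fun m => by
        show e (Additive.ofMul ((MulAut.conjNormal (H := V) (1 : Γ)) (Additive.toMul (e.symm m)))) = m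
        rw [map_one, MulAut.one_apply, ofMul_toMul, e.apply_symm_apply]
      map_mul' := fun x y => LinearMap.ext fun m => by
        show e (Additive.ofMul ((MulAut.conjNormal (H := V) (x * y)) (Additive.toMul (e.symm m)))) =
          e (Additive.ofMul ((MulAut.conjNormal (H := V) x) (Additive.toMul (e.symm (e (Additive.ofMul
            ((MulAut.conjNormal (H := V) y) (Additive.toMul (e.symm m)))))))))
        rw [e.symm_apply_apply, map_mul, MulAut.mul_apply, toMul_ofMul] }
  let ρ : Γ →* LinearMap.GeneralLinearGroup (ZMod p) (Fin (Module.finrank (ZMod p) (Additive V)) → ZMod p) :=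
    act.toHomUnits
  have hrep : ∀ m, ∃ v : V, m = e (Additive.ofMul v) := fun m =>
    ⟨Additive.toMul (e.symm m), by rw [ofMul_toMul, e.apply_symm_apply]⟩
  have hval : ∀ (x : Γ) (v : V), ((ρ x).val (e (Additive.ofMul v))) =
      e (Additive.ofMul (MulAut.conjNormal x v)) := fun x v => by
    show e (Additive.ofMul ((MulAut.conjNormal (H := V) x) (Additive.toMul (e.symm (e (Additive.ofMul v)))))) = _
    rw [e.symm_apply_apply, toMul_ofMul]
  have hker : ∀ x : Γ, ρ x = 1 ↔ x ∈ Subgroup.centralizer (V : Set Γ) := fun x => by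
    rw [Subgroup.mem_centralizer_iff]
    constructor
    · intro h v hv
      have h1 := hval x ⟨v, hv⟩
      rw [h, Units.val_one, Module.End.one_apply] at h1
      have h2 : v = x * v * x⁻¹ := congrArg Subtype.val (Additive.ofMul.injective (e.injective h1))
      conv_lhs => rw [h2]
      rw [inv_mul_cancel_right]
    · intro h
      refine Units.ext (LinearMap.ext fun m => ?_)
      obtain ⟨v, rfl⟩ := hrep m
      rw [hval, Units.val_one, Module.End.one_apply]
      refine congrArg (fun w => e (Additive.ofMul w)) (Subtype.ext ?_)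
      show x * (v : Γ) * x⁻¹ = _
      rw [← h _ v.2, mul_inv_cancel_right]
  have hsq : ((ρ (π g)).val - 1) * ((ρ (π g)).val - 1) = 0 := by
    refine LinearMap.ext fun m => ?_
    obtain ⟨w, rfl⟩ := hrep m
    rw [Module.End.mul_apply, LinearMap.sub_apply, LinearMap.sub_apply, Module.End.one_apply,
      Module.End.one_apply, hval, ← map_sub, ← ofMul_div, hval, ← map_sub, ← ofMul_div,
      LinearMap.zero_apply]
    refine (congrArg e (congrArg Additive.ofMul (Subtype.ext ?_ : _ = (1 : V)))).trans (map_zero e)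
    set v : Γ := (w : Γ) with hv
    have h := hq v w.2
    simp only [Subgroup.coe_div, MulAut.conjNormal_apply, OneMemClass.coe_one]
    rw [← hv]
    have hc2 : π g * ⁅v, π g⁆ = ⁅v, π g⁆ * π g := (commutatorElement_eq_one_iff_mul_comm.1 h).symm
    have e1 : π g * v * (π g)⁻¹ / v = ⁅v, π g⁆⁻¹ := by
      have hvv : (π g * v * (π g)⁻¹) * v⁻¹ = v⁻¹ * (π g * v * (π g)⁻¹) :=
        congrArg Subtype.val (hcomm.1.1 ⟨_, (inferInstance : V.Normal).conj_mem v w.2 (π g)⟩ ⟨_, inv_mem w.2⟩)
      rw [div_eq_mul_inv, commutatorElement_def]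
      group
    rw [e1, div_eq_one, mul_inv_eq_iff_eq_mul, ← Commute.inv_right (show Commute (π g) ⁅v, π g⁆ from hc2)]
  set f := ρ.comp π with hf
  have hnorm : A.map f ≤ Subgroup.normalizer ((G.map f : Subgroup _) : Set _) := by
    rintro _ ⟨a, -, rfl⟩
    refine mem_normalizer_of_cj_le ?_
    rintro _ ⟨_, ⟨y, hy, rfl⟩, rfl⟩
    refine ⟨a * y * a⁻¹, (inferInstance : G.Normal).conj_mem y hy a, ?_⟩
    rw [map_mul, map_mul, map_inv]
    rfl
  have hcore : Cfsg.pCore p (G.map f) = ⊥ := by
    set O := (Cfsg.pCore p (G.map f)).map (G.map f).subtype with hO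
    haveI hDn : (O.comap ρ).Normal := ⟨fun d hd x => by
      show ρ (x * d * x⁻¹) ∈ O
      rw [map_mul, map_mul, map_inv]
      refine conj_mem_pCoreOf ?_ hd
      refine mem_normalizer_of_cj_le ?_
      rintro _ ⟨_, ⟨y, hy, rfl⟩, rfl⟩
      obtain ⟨x', rfl⟩ := hπ x
      refine ⟨x' * y * x'⁻¹, (inferInstance : G.Normal).conj_mem y hy x', ?_⟩
      rw [map_mul, map_mul, map_inv]
      rfl⟩
    have hle := le_centralizer_of_minimal hV hmin (D := O.comap ρ) fun d hd => by
      obtain ⟨j, hj⟩ := ((isPGroup_pCore p (G.map f)).map (G.map f).subtype) ⟨ρ d, hd⟩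
      refine ⟨j, (hker _).1 ?_⟩
      rw [map_pow]
      exact congrArg Subtype.val hj
    refine (Subgroup.eq_bot_iff_forall _).2 fun y hy => ?_
    obtain ⟨x, -, hx⟩ := y.2
    have hxD : ρ (π x) ∈ O := ⟨y, hy, hx.symm⟩
    exact Subtype.ext (hx.symm.trans ((hker (π x)).2 (hle hxD)))
  have hco' : (Nat.card (A.map f)).Coprime (Nat.card (G.map f)) :=
    (hco.coprime_dvd_left (Subgroup.card_map_dvd (H := A) f)).coprime_dvd_right (Subgroup.card_map_dvd (H := G) f)
  have hAG : A ≤ Subgroup.normalizer (G : Set Δ) := by rw [Subgroup.normalizer_eq_top]; exact le_top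
  obtain ⟨T, hT, hTA⟩ := Solv.exists_invariant_sylow hAG hco (solvable_or hco) p
  have hgG : f g ∈ G.map f := ⟨g, hT.1 (hsyl T hT hTA), rfl⟩
  have hmem := hI _ (G.map f) (A.map f) (f g) hnorm hco'.symm hgG hsq ?_
  · rw [hcore, Subgroup.map_bot, Subgroup.mem_bot] at hmem
    exact (hker _).1 hmem
  intro S hS hSA
  have hT' : Solv.IsSylIn p (T.map f) (G.map f) := by
    obtain ⟨Q, hQ⟩ := hT.exists_sylow
    have h1 := Solv.IsSylIn.of_sylow (Q.mapSurjective (f.subgroupMap_surjective G))
    have h2 : ((Q.mapSurjective (f.subgroupMap_surjective G) : Sylow p (G.map f)) : Subgroup (G.map f)).map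
        (G.map f).subtype = T.map f := by
      rw [Sylow.coe_mapSurjective, Subgroup.map_map, ← hQ, Subgroup.map_map]
      rfl
    rwa [h2] at h1
  have hTA' : A.map f ≤ Subgroup.normalizer ((T.map f : Subgroup _) : Set _) :=
    le_trans (Subgroup.map_mono hTA) (Subgroup.le_normalizer_map f)
  obtain ⟨c, hc, hcS⟩ := Solv.invariant_sylow_conj hnorm hco' (solvable_or hco') hT' hS hTA' hSA
  rw [map_fixed G A hco f] at hc
  obtain ⟨c₀, hc₀, rfl⟩ := hc
  have hg' : g ∈ MulAut.conj c₀ • T := hsyl _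
    (hT.conj (Subgroup.le_normalizer hc₀.1)) fun a ha => mem_normalizer_of_cj_le (by
      rintro _ ⟨_, ⟨t, ht, rfl⟩, rfl⟩
      refine ⟨a * t * a⁻¹, (Subgroup.mem_normalizer_iff.1 (hTA ha) t).1 ht, ?_⟩
      have hca : a * c₀ = c₀ * a := Subgroup.mem_centralizer_iff.1 hc₀.2 a ha
      show c₀ * (a * t * a⁻¹) * c₀⁻¹ = a * (c₀ * t * c₀⁻¹) * a⁻¹
      calc c₀ * (a * t * a⁻¹) * c₀⁻¹ = (c₀ * a) * t * (c₀ * a)⁻¹ := by group
        _ = (a * c₀) * t * (a * c₀)⁻¹ := by rw [hca]
        _ = a * (c₀ * t * c₀⁻¹) * a⁻¹ := by group)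
  obtain ⟨t, ht, hgt⟩ := hg'
  rw [← hcS, ← hgt]
  refine ⟨f t, ⟨t, ht, rfl⟩, ?_⟩
  show f c₀ * f t * (f c₀)⁻¹ = f (c₀ * t * c₀⁻¹)
  rw [map_mul, map_mul, map_inv]

end Linear

/-- The group half: the K-infinity subgroup of the intersection of the invariant Sylow subgroups. -/
theorem kInfLower_normalized {X : Type u} [Group X] [Finite X] {p : ℕ} [Fact p.Prime] (hI : LinearCore p)
    (G R : Subgroup X) (r : ℕ) [Fact r.Prime] (hR : IsPGroup r ↥R) (hcop : (Nat.card ↥G).Coprime r)
    (hnorm : R ≤ Subgroup.normalizer (G : Set X)) (hG : G ≠ ⊥)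
    (hF : Cfsg.generalizedFittingSubgroup ↥G = Cfsg.pCore p ↥G) (P : Subgroup X)
    (hP : P = ⨅ S : {S : Sylow p ↥G // ∀ a ∈ R, ((S : Subgroup ↥G).map G.subtype).map
      (MulAut.conj a).toMonoidHom = (S : Subgroup ↥G).map G.subtype},
      ((S : Sylow p ↥G) : Subgroup ↥G).map G.subtype) :
    Cfsg.kInfLower ↥P ≠ ⊥ ∧
      G ≤ Subgroup.normalizer (((Cfsg.kInfLower ↥P).map P.subtype : Subgroup X) : Set X) := by
  haveI : Nontrivial G := (Subgroup.nontrivial_iff_ne_bot G).2 hG
  set T := Cfsg.pCore p ↥G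
  have hCT : Subgroup.centralizer (T : Set G) ≤ T := hF ▸ Solv.centralizer_gfit_le
  have hT1 : T ≠ ⊥ := by
    intro h0
    rw [h0] at hCT
    obtain ⟨x, hx⟩ := exists_ne (1 : G)
    exact hx (Subgroup.mem_bot.1 (hCT (Subgroup.mem_centralizer_iff.2 fun y hy => by
      rw [Subgroup.mem_bot.1 hy, one_mul, mul_one])))
  have hpG : p ∣ Nat.card G := by
    obtain ⟨k, hk⟩ := IsPGroup.iff_card.1 (isPGroup_pCore p G)
    have hk0 : k ≠ 0 := fun e => hT1 (Subgroup.card_eq_one.1 (by rw [hk, e, pow_zero]))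
    exact (dvd_pow_self p hk0).trans (hk ▸ T.card_subgroup_dvd_card)
  haveI : Finite (MulAut G) := Finite.of_injective (fun e => (e : G → G)) DFunLike.coe_injective
  set φ : R →* MulAut G := G.normalizerMonoidHom.comp (Subgroup.inclusion hnorm)
  set A := φ.range
  have hAr : IsPGroup r A := hR.of_surjective φ.rangeRestrict φ.rangeRestrict_surjective
  have hAco : (Nat.card A).Coprime (Nat.card G) := by
    obtain ⟨k, hk⟩ := IsPGroup.iff_card.1 hAr
    rw [hk]; exact (hcop.pow_right k).symm
  have hpA : (Nat.card A).Coprime p := hAco.coprime_dvd_right hpG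
  haveI : Finite (G ⋊[A.subtype] A) := Finite.of_equiv _ SemidirectProduct.equivProd.symm
  set ι := (SemidirectProduct.inl : G →* G ⋊[A.subtype] A)
  have hι : Function.Injective ι := SemidirectProduct.inl_injective
  set G₀ := ι.range
  set A₀ := (SemidirectProduct.inr : A →* G ⋊[A.subtype] A).range
  haveI hG₀ : G₀.Normal := by
    show ι.range.Normal
    rw [SemidirectProduct.range_inl_eq_ker_rightHom]; infer_instance
  have hco : (Nat.card A₀).Coprime (Nat.card G₀) := by
    rw [show Nat.card A₀ = Nat.card A from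
        Nat.card_congr (MonoidHom.ofInjective SemidirectProduct.inr_injective).toEquiv.symm,
      show Nat.card G₀ = Nat.card G from Nat.card_congr (MonoidHom.ofInjective hι).toEquiv.symm]
    exact hAco
  have hTcore : Cfsg.pCore p (G ⋊[A.subtype] A) = T.map ι := by
    refine le_antisymm (fun x hx => ?_) ?_
    · obtain ⟨k, hk⟩ := isPGroup_pCore p _ ⟨x, hx⟩
      have hr : x.right = 1 := orderOf_eq_one_iff.1 (Nat.eq_one_of_dvd_coprimes (hpA.pow_right k)
        (orderOf_dvd_natCard _) (orderOf_dvd_of_pow_eq_one (by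
          show (SemidirectProduct.rightHom (φ := A.subtype) x) ^ p ^ k = 1
          have hk' : x ^ p ^ k = 1 := congrArg Subtype.val hk
          rw [← map_pow, hk', map_one])))
      have hxl : ι x.left = x := SemidirectProduct.ext rfl (by simp [ι, hr])
      haveI : ((Cfsg.pCore p (G ⋊[A.subtype] A)).comap ι).Normal := inferInstance
      refine ⟨x.left, le_pCore (N := (Cfsg.pCore p (G ⋊[A.subtype] A)).comap ι) ?_ ?_, hxl⟩
      · exact (isPGroup_pCore p _).comap_of_injective ι hι
      · exact Subgroup.mem_comap.2 (hxl.symm ▸ hx)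
    · haveI : (T.map ι).Normal := ⟨fun x hx y => by
        obtain ⟨k, hk, rfl⟩ := hx
        rw [← SemidirectProduct.inl_left_mul_inr_right y]
        refine ⟨y.left * A.subtype y.right k * y.left⁻¹,
          (inferInstance : T.Normal).conj_mem _ ?_ _, ?_⟩
        · exact (map_pCore_equiv (p := p) (A.subtype y.right)).le (Subgroup.mem_map_of_mem _ hk)
        · simp only [ι]
          rw [map_mul, map_mul, SemidirectProduct.inl_aut, map_inv, map_inv]
          group⟩
      exact le_pCore ((isPGroup_pCore p G).map ι)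
  have hCΓ : Subgroup.centralizer (Cfsg.pCore p (G ⋊[A.subtype] A) : Set _) ≤
      Cfsg.pCore p (G ⋊[A.subtype] A) := by
    have hin : ∀ y : G, ι y ∈ Subgroup.centralizer (Cfsg.pCore p (G ⋊[A.subtype] A) : Set _) → y ∈ T :=
      fun y hy => hCT (Subgroup.mem_centralizer_iff.2 fun t ht => hι (by
        rw [map_mul, map_mul]
        exact Subgroup.mem_centralizer_iff.1 hy (ι t) (hTcore ▸ Subgroup.mem_map_of_mem ι ht)))
    intro x hx
    obtain ⟨k, hk⟩ := IsPGroup.iff_card.1 (isPGroup_pCore p (G ⋊[A.subtype] A))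
    haveI : (Subgroup.centralizer (Cfsg.pCore p (G ⋊[A.subtype] A) : Set (G ⋊[A.subtype] A))).Normal :=
      Subgroup.normal_centralizer
    have hfix : ∀ h : G, x ^ p ^ k * ι h * (x ^ p ^ k)⁻¹ = ι h := by
      intro h
      set c := x * ι h * x⁻¹ * (ι h)⁻¹ with hc
      have hcC : c ∈ Subgroup.centralizer (Cfsg.pCore p (G ⋊[A.subtype] A) : Set _) := by
        rw [hc, show x * ι h * x⁻¹ * (ι h)⁻¹ = x * (ι h * x⁻¹ * (ι h)⁻¹) by group]
        exact Subgroup.mul_mem _ hx (Subgroup.Normal.conj_mem inferInstance _ (Subgroup.inv_mem _ hx) _)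
      obtain ⟨y, hy⟩ : c ∈ G₀ := G₀.mul_mem (hG₀.conj_mem _ ⟨h, rfl⟩ x) (G₀.inv_mem ⟨h, rfl⟩)
      have hcT : c ∈ Cfsg.pCore p (G ⋊[A.subtype] A) := by
        rw [hTcore, ← hy]
        exact Subgroup.mem_map_of_mem ι (hin y (hy ▸ hcC))
      have hxc : x * c = c * x := (Subgroup.mem_centralizer_iff.1 hx c hcT).symm
      have hstep : ∀ n : ℕ, x ^ n * ι h * (x ^ n)⁻¹ = c ^ n * ι h := by
        intro n
        induction n with
        | zero => simp
        | succ n ih =>
          have h1 : x * c ^ n = c ^ n * x := (Commute.pow_right hxc n).eq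
          calc x ^ (n + 1) * ι h * (x ^ (n + 1))⁻¹ = x * (x ^ n * ι h * (x ^ n)⁻¹) * x⁻¹ := by
                rw [pow_succ']; group
            _ = x * c ^ n * ι h * x⁻¹ := by rw [ih]; group
            _ = c ^ n * (x * ι h * x⁻¹) := by rw [h1]; group
            _ = c ^ (n + 1) * ι h := by rw [pow_succ, hc]; group
      rw [hstep, ← hk, show c ^ Nat.card (Cfsg.pCore p (G ⋊[A.subtype] A)) = 1 from
        congrArg Subtype.val (pow_card_eq_one' (x := (⟨c, hcT⟩ : Cfsg.pCore p (G ⋊[A.subtype] A)))), one_mul]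
    set z := x ^ p ^ k with hz
    have hzr : A.subtype z.right = MulAut.conj z.left⁻¹ := by
      refine MulEquiv.ext fun h => hι ?_
      have h1 := hfix h
      rw [← SemidirectProduct.inl_left_mul_inr_right z] at h1
      have h2 := SemidirectProduct.inl_aut (φ := A.subtype) z.right h
      show ι (A.subtype z.right h) = ι (z.left⁻¹ * h * z.left⁻¹⁻¹)
      calc ι (A.subtype z.right h)
          = (ι z.left)⁻¹ * (ι z.left * SemidirectProduct.inr z.right * ι h *
              (ι z.left * SemidirectProduct.inr z.right)⁻¹) * ι z.left := by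
            rw [show ι (A.subtype z.right h) = _ from h2, map_inv]; simp only [ι]; group
        _ = ι (z.left⁻¹ * h * z.left⁻¹⁻¹) := by
            rw [h1, map_mul, map_mul, map_inv, inv_inv]
    have hzr1 : z.right = 1 := by
      refine A.subtype_injective (orderOf_eq_one_iff.1 (Nat.eq_one_of_dvd_coprimes hAco ?_ ?_))
      · rw [orderOf_injective A.subtype A.subtype_injective]; exact orderOf_dvd_natCard _
      · rw [hzr]; exact (orderOf_map_dvd _ _).trans (orderOf_dvd_natCard _)
    have hxr : x.right = 1 := orderOf_eq_one_iff.1 (Nat.eq_one_of_dvd_coprimes (hpA.pow_right k)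
      (orderOf_dvd_natCard _) (orderOf_dvd_of_pow_eq_one (by
        show (SemidirectProduct.rightHom (φ := A.subtype) x) ^ p ^ k = 1
        rw [← map_pow]
        exact hzr1)))
    have hxl : ι x.left = x := SemidirectProduct.ext rfl (by simp [ι, hxr])
    rw [hTcore, ← hxl]
    exact Subgroup.mem_map_of_mem ι (hin _ (hxl ▸ hx))
  -- invariant Sylow subgroups
  have hinv : ∀ S : Subgroup (G ⋊[A.subtype] A), Solv.IsSylIn p S G₀ →
      A₀ ≤ Subgroup.normalizer (S : Set (G ⋊[A.subtype] A)) →
      ∃ S' : {S : Sylow p ↥G // ∀ a ∈ R, ((S : Subgroup ↥G).map G.subtype).map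
        (MulAut.conj a).toMonoidHom = (S : Subgroup ↥G).map G.subtype},
        ((S' : Sylow p ↥G) : Subgroup G).map ι = S := by
    intro S hS hSA
    have hmap : (S.comap ι).map ι = S := Subgroup.map_comap_eq_self (by exact hS.1)
    have hcard : Nat.card (S.comap ι) = p ^ (Nat.card G).factorization p := by
      rw [← Subgroup.card_map_of_injective hι, hmap, hS.2,
        show Nat.card G₀ = Nat.card G from Nat.card_congr (MonoidHom.ofInjective hι).toEquiv.symm]
    refine ⟨⟨Sylow.ofCard (S.comap ι) hcard, fun a ha => ?_⟩, hmap⟩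
    have key : ∀ (α : A) (x : G), ι x ∈ S → ι ((α : MulAut G) x) ∈ S := by
      intro α x hx
      rw [show ι ((α : MulAut G) x) = _ from SemidirectProduct.inl_aut (φ := A.subtype) α x, map_inv]
      exact (Subgroup.mem_normalizer_iff.1 (hSA ⟨α, rfl⟩) _).1 hx
    rw [Sylow.coe_ofCard]
    refine le_antisymm ?_ ?_
    · rintro _ ⟨_, ⟨x, hx, rfl⟩, rfl⟩
      exact ⟨_, key ⟨φ ⟨a, ha⟩, ⟨_, rfl⟩⟩ x hx, rfl⟩
    · rintro _ ⟨x, hx, rfl⟩
      refine ⟨_, ⟨_, key ⟨φ ⟨a⁻¹, R.inv_mem ha⟩, ⟨_, rfl⟩⟩ x hx, rfl⟩, ?_⟩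
      show a * (a⁻¹ * (x : X) * a⁻¹⁻¹) * a⁻¹ = x
      group
  obtain ⟨S₀, hS₀, hS₀A⟩ := Solv.exists_invariant_sylow (A := A₀) (K := G₀)
    (by rw [Subgroup.normalizer_eq_top]; exact le_top) hco (solvable_or hco) p
  obtain ⟨S₁, -⟩ := hinv S₀ hS₀ hS₀A
  set P' := P.subgroupOf G with hP'def
  have hPG : P ≤ G := hP ▸ (iInf_le _ S₁).trans (Subgroup.map_subtype_le _)
  have hP' : P'.map G.subtype = P := Subgroup.map_subgroupOf_eq_of_le hPG
  have hmemP : ∀ x : G, x ∈ P' ↔ ∀ S : {S : Sylow p ↥G // ∀ a ∈ R, ((S : Subgroup ↥G).map G.subtype).map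
      (MulAut.conj a).toMonoidHom = (S : Subgroup ↥G).map G.subtype}, x ∈ ((S : Sylow p ↥G) : Subgroup G) := by
    intro x
    rw [hP'def, Subgroup.mem_subgroupOf, hP, Subgroup.mem_iInf]
    exact forall_congr' fun S => Subgroup.mem_map_iff_mem G.subtype_injective
  have hTP : T ≤ P' := fun x hx => (hmemP x).2 fun S => pCore_le_sylow S.1 hx
  have hP'p : IsPGroup p P' := S₁.1.isPGroup'.to_le fun x hx => (hmemP x).1 hx S₁
  have hTP₀ : Cfsg.pCore p (G ⋊[A.subtype] A) ≤ P'.map ι := hTcore ▸ Subgroup.map_mono hTP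
  obtain ⟨A₁, hA₁, -⟩ := exists_criticalIn (G := G ⋊[A.subtype] A) (p := p)
  have hn : (inducedFunctor Cfsg.kInfLower (P'.map ι)).Normal := by
    refine kInfLower_normal_of_core_le hTP₀ hA₁ fun g hg => ?_
    obtain ⟨hgP, -, -, -, hchief⟩ := hg
    obtain ⟨U, V, hc, hUA, hUg, hne⟩ := hchief hCΓ
    obtain ⟨hlt, hUn, hVn, hmin⟩ := hc
    haveI := hUn
    haveI := hVn
    set π := QuotientGroup.mk' V
    have hπ : Function.Surjective π := QuotientGroup.mk'_surjective V
    haveI hUn' : (U.map π).Normal := Subgroup.Normal.map hUn π hπ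
    have hU : IsPGroup p (U.map π) := (hA₁.isPGroup.to_le hUA).map π
    have hmin' : ∀ N : Subgroup ((G ⋊[A.subtype] A) ⧸ V), N.Normal → N ≤ U.map π → N = ⊥ ∨ N = U.map π := by
      intro N hN hNU
      rcases hmin (N.comap π) inferInstance (fun v hv => by
          show π v ∈ N
          rw [show π v = 1 from (QuotientGroup.eq_one_iff v).2 hv]
          exact one_mem _) (fun x hx => by
          obtain ⟨u, hu, he⟩ := hNU (show π x ∈ N from hx)
          have hmem : u⁻¹ * x ∈ V := QuotientGroup.eq.1 he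
          simpa using mul_mem hu (hlt.le hmem)) with h | h
      · left
        rw [← Subgroup.map_comap_eq_self_of_surjective hπ N, h]
        exact QuotientGroup.map_mk'_self V
      · right
        rw [← Subgroup.map_comap_eq_self_of_surjective hπ N, h]
    have hcen : π g ∈ Subgroup.centralizer ((U.map π : Subgroup _) : Set _) := by
      refine centralizes_minimal hI π hπ G₀ A₀ hco hU hmin' ?_ fun S hS hSA => ?_
      · rintro _ ⟨u, hu, rfl⟩
        rw [← map_commutatorElement, ← map_commutatorElement]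
        exact (QuotientGroup.eq_one_iff _).2 (hUg (Subgroup.commutator_mem_commutator
          (Subgroup.commutator_mem_commutator hu (Subgroup.mem_zpowers g)) (Subgroup.mem_zpowers g)))
      · obtain ⟨S', hS'⟩ := hinv S hS hSA
        obtain ⟨x, hx, rfl⟩ := hgP
        exact hS' ▸ Subgroup.mem_map_of_mem ι ((hmemP x).1 hx S')
    refine hne (Subgroup.commutator_le.2 fun u hu z hz => ?_)
    rw [← QuotientGroup.ker_mk' V, MonoidHom.mem_ker, map_commutatorElement,
      commutatorElement_eq_one_iff_mul_comm]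
    obtain ⟨i, rfl⟩ := Subgroup.mem_zpowers_iff.1 hz
    rw [map_zpow]
    exact Subgroup.mem_centralizer_iff.1 (zpow_mem hcen i) (π u) ⟨u, hu, rfl⟩
  rw [inducedFunctor_map_of_injOn (isCharPFunctor_kInfLower p) ι hι.injOn hP'p] at hn
  haveI hWn : (inducedFunctor Cfsg.kInfLower P').Normal := by
    rw [← Subgroup.comap_map_eq_self_of_injective hι (inducedFunctor Cfsg.kInfLower P')]
    exact hn.comap ι
  have hback := inducedFunctor_map_of_injOn (isCharPFunctor_kInfLower p) G.subtype
    G.subtype_injective.injOn hP'p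
  rw [hP'] at hback
  refine ⟨fun h0 => ?_, ?_⟩
  · obtain ⟨x, hx, hx1⟩ := (Subgroup.bot_or_exists_ne_one T).resolve_left hT1
    have hxP : (x : X) ∈ P := hP' ▸ Subgroup.mem_map_of_mem G.subtype (hTP hx)
    haveI : Nontrivial P := by
      refine ⟨⟨(x : X), hxP⟩, 1, fun e => hx1 (Subtype.ext ?_)⟩
      simpa using congrArg Subtype.val e
    have hPp : IsPGroup p P := hP' ▸ hP'p.map _
    haveI : Group.IsNilpotent P := hPp.isNilpotent
    haveI := hPp.center_nontrivial
    exact (Subgroup.nontrivial_iff_ne_bot _).1 inferInstance (le_bot_iff.1 (h0 ▸ center_le_kInfLower))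
  · show G ≤ Subgroup.normalizer ((inducedFunctor Cfsg.kInfLower P : Subgroup X) : Set X)
    rw [hback]
    refine le_trans ?_ (Subgroup.le_normalizer_map G.subtype)
    rw [Subgroup.normalizer_eq_top, ← MonoidHom.range_eq_map, Subgroup.range_subtype]

end Cfsg.Agent.EquivParabolic
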