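import Cfsg.Agent.Lib.Local.EquivParabolic.Pairs
import Cfsg.Agent.Lib.Local.RootParabolic.Core

/-!
# A quadratic element of all invariant Sylow subgroups lies in the core
-/

set_option autoImplicit false
set_option linter.unusedSectionVars false
set_option linter.unusedVariables false
set_option linter.style.haveILetI false
set_option maxHeartbeats 400000

namespace Cfsg.Agent.EquivParabolic

open Cfsg Cfsg.Agent.Lead.QP Cfsg.Agent.EquivQuad Cfsg.Agent.RootParabolic

variable {p : ℕ} [hp : Fact p.Prime]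

section

variable {M : Type} [AddCommGroup M] [Module (ZMod p) M] [Module.Finite (ZMod p) M]

local notation "k" => ZMod p
local notation "End'" => Module.End k M
local notation "GL'" => LinearMap.GeneralLinearGroup k M

/-- A normal `p`-subgroup of an irreducible group is trivial. -/
theorem eq_bot_of_irreducible {Γ Q : Subgroup GL'} (hirr : IsIrreducibleFor Γ) (hQ : IsPGroup p Q)
    (hn : Γ ≤ Subgroup.normalizer (Q : Set GL')) : Q = ⊥ := by
  classical
  haveI : Finite M := Module.finite_of_finite (ZMod p)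
  letI : MulAction Q M :=
    { smul := fun g v => ((g : GL') : End') v
      one_smul := fun v => rfl
      mul_smul := fun g h v => rfl }
  obtain ⟨⟨m, hm⟩, hW⟩ := hirr
  haveI : Nontrivial M := nontrivial_of_ne m 0 hm
  have hdvd : p ∣ Nat.card M := by
    rw [Module.natCard_eq_pow_finrank (K := ZMod p) (V := M), Nat.card_zmod]
    exact dvd_pow_self p Module.finrank_pos.ne'
  obtain ⟨v, hv, hv0⟩ := hQ.exists_fixed_point_of_prime_dvd_card_of_fixed_point M hdvd
    (a := (0 : M)) (fun g => map_zero _)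
  let Fix : Submodule k M :=
    { carrier := {v | ∀ g ∈ Q, (g : End') v = v}
      add_mem' := fun {v w} hv hw x hx => by rw [map_add, hv x hx, hw x hx]
      zero_mem' := fun x _ => map_zero _
      smul_mem' := fun c v hv x hx => by rw [map_smul, hv x hx] }
  have hvF : v ∈ Fix := fun g hg => hv ⟨g, hg⟩
  rcases hW Fix (fun g hg w hw x hx => by
    have h1 := hw _ ((Subgroup.mem_normalizer_iff.1 (hn (inv_mem hg)) x).1 hx)
    rw [inv_inv] at h1
    have h2 := congrArg (g : End') h1
    simp only [← Module.End.mul_apply, ← Units.val_mul, ← mul_assoc, mul_inv_cancel, one_mul] at h2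
    rw [← Module.End.mul_apply, ← Units.val_mul]
    exact h2) with h | h
  · rw [h, Submodule.mem_bot] at hvF
    exact absurd hvF.symm hv0
  · exact (Subgroup.eq_bot_iff_forall _).2 fun x hx => Units.ext (LinearMap.ext fun w =>
      (h.ge (Submodule.mem_top (x := w))) x hx)

variable {G R : Subgroup (LinearMap.GeneralLinearGroup (ZMod p) M)}
  {y : LinearMap.GeneralLinearGroup (ZMod p) M}

/-- The irreducible case. -/
theorem mem_core_of_irreducible (hp5 : 5 ≤ p) (hL : LeviInput p) (hF : FlagInput p) (hI : Inp G R y)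
    (hB : Below p (Nat.card G + Module.finrank k M)) (hirr : IsIrreducibleFor (G ⊔ R)) : y ∈ coreOf p G := by
  classical
  by_contra hy
  have hRn : R ≤ Subgroup.normalizer (G : Set GL') := hI.norm
  have hΓn : G ⊔ R ≤ Subgroup.normalizer (G : Set GL') := sup_le Subgroup.le_normalizer hRn
  have hcore : coreOf p G = ⊥ :=
    eq_bot_of_irreducible hirr (coreOf_isPGroup G) (coreOf_normalized hΓn)
  have hy1 : y ≠ 1 := fun e => hy (e ▸ one_mem _)
  have hpc : pCore p G = ⊥ := pCore_eq_bot hcore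
  set q := (y : End') - 1 with hq
  have hqsq : q * q = 0 := hI.sq
  have hfam : InFam G q := inFam_of_mem hI.mem hI.sq
  obtain ⟨h2, h3, hc3⟩ := small_ne hp5
  have hex : ∃ n, ∃ x : End', x * x = 0 ∧ x ≠ 0 ∧ InFam G x ∧ Module.finrank k (LinearMap.range x) = n :=
    ⟨_, q, hqsq, sub_ne_zero_of_ne_one hy1, hfam, rfl⟩
  set d := Nat.find hex
  have hs : QS G d := ⟨dickson_holds (by rw [ZMod.ringChar_zmod_n]; omega) hc3, h2, hc3,
    fun x hx hx0 hm => Nat.find_le ⟨x, hx, hx0, hm, rfl⟩⟩
  obtain ⟨a₀, ha1, ha2, ha3, ha4⟩ := Nat.find_spec hex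
  have ha₀ : Qd G d a₀ := ⟨ha1, ha2, ha3, ha4⟩
  have hpa : Partners G d := partners_of_core hs hpc
  have hfail : ∀ {K : Subgroup GL'}, K ≤ G → K ≠ G → G ⊔ R ≤ Subgroup.normalizer (K : Set GL') → y ∉ K :=
    fun {K} hKG hne hKn hyK => by
      have h1 := coreOf_mono (p := p) hKG (le_sup_left.trans hKn)
        (hI.mem_core_of_lt hB hKG hne (le_sup_right.trans hKn) hyK)
      exact hy h1
  set C := G ⊓ Subgroup.centralizer (GS G d : Set GL') with hC
  have hGSn : G ⊔ R ≤ Subgroup.normalizer (GS G d : Set GL') := hΓn.trans GS_normal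
  have hCn : G ⊔ R ≤ Subgroup.normalizer (C : Set GL') := le_normalizer_of_conj fun g hg c hc => by
    refine ⟨(Subgroup.mem_normalizer_iff.1 (hΓn hg) c).1 hc.1, Subgroup.mem_centralizer_iff.2 fun f hf => ?_⟩
    have hf' := (Subgroup.mem_normalizer_iff.1 (hGSn (inv_mem hg)) f).1 hf
    have h1 := congrArg (fun t => g * t * g⁻¹) (Subgroup.mem_centralizer_iff.1 hc.2 _ hf')
    simpa [mul_assoc] using h1
  have hyGC : y ∈ GS G d ⊔ C := by
    have h1 := fam_le_sup hs.dick hs.h2 hs.h3 hirr (K := GS G d) (GS_le.trans le_sup_left) hGSn _ rfl hqsq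
      (hfam.mono le_sup_left)
    obtain ⟨g, hg, hgv⟩ := h1 1
    have hgy : g = y := Units.ext (by rw [hgv, one_smul, hq, add_sub_cancel])
    rw [sup_comm] at hg
    obtain ⟨c, hc, f, hf, e⟩ := Fusion.exists_mul_of_mem_sup
      ((inf_le_left (b := Subgroup.centralizer (GS G d : Set GL'))).trans hGSn) hg
    rw [hgy] at e
    have hcG : c ∈ G := by
      rw [show c = y * f⁻¹ by rw [← e, mul_inv_cancel_right]]
      exact mul_mem hI.mem (inv_mem (GS_le hf))
    rw [← e]
    exact mul_mem (Subgroup.mem_sup_right ⟨hcG, hc.2⟩) (Subgroup.mem_sup_left hf)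
  have hG : GS G d ⊔ C = G := by
    by_contra hne
    refine hfail (sup_le GS_le inf_le_left) hne (le_normalizer_of_conj fun g hg x hx => ?_) hyGC
    obtain ⟨s, hs', c, hc, rfl⟩ := Fusion.exists_mul_of_mem_sup ((GS_le.trans le_sup_left).trans hCn) hx
    rw [show g * (s * c) * g⁻¹ = (g * s * g⁻¹) * (g * c * g⁻¹) by group]
    exact Subgroup.mul_mem_sup ((Subgroup.mem_normalizer_iff.1 (hGSn hg) s).1 hs')
      ((Subgroup.mem_normalizer_iff.1 (hCn hg) c).1 hc)
  have hGPGS : ∀ c, Qd G d c → GP G d c ≤ GS G d := fun c hc => GP_le fun e he => Rg_le_GS (he.qd hc)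
  have normal : ∀ c, Qd G d c → G ≤ Subgroup.normalizer (GP G d c : Set GL') := by
    intro c hc
    conv_lhs => rw [← hG]
    refine sup_le (iSup₂_le fun A ⟨e, he, eA⟩ g hg => conjBy_eq (GP_normal hc (Rg_le_Stb hs hpa hc he (eA ▸ hg))))
      (le_normalizer_of_conj fun g hg x hx => ?_)
    rw [← Subgroup.mem_centralizer_iff.1 hg.2 x (hGPGS c hc hx), mul_inv_cancel_right]
    exact hx
  have cover : ∀ c, Qd G d c → G ≤ GP G d c ⊔ (G ⊓ Subgroup.centralizer (GP G d c : Set GL')) := by
    intro c hc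
    conv_lhs => rw [← hG]
    refine sup_le (iSup₂_le fun A ⟨e, he, eA⟩ => ?_) ((inf_le_inf_left _ (Subgroup.centralizer_le
      (hGPGS c hc))).trans le_sup_right)
    subst eA
    by_cases h : Con G d c e
    · exact (Rg_le_GP h).trans le_sup_left
    · refine le_trans ?_ le_sup_right
      refine le_inf (Rg_le e) ?_
      refine (Rg_le_GP (G := G) (d := d) (Relation.ReflTransGen.refl (a := e))).trans ?_
      rw [← Subgroup.commutator_eq_bot_iff_le_centralizer]
      exact GP_commute hs hpa he hc fun h' => h h'.symm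
  have hcoreX : ∀ c, Qd G d c → ∀ W : Submodule k M, (∀ g ∈ GP G d c, ∀ v ∈ W, (g : End') v ∈ W) →
      ∃ W' : Submodule k M, (∀ g ∈ GP G d c, ∀ v ∈ W', (g : End') v ∈ W') ∧ IsCompl W W' := fun c hc =>
    exists_isCompl_of_normal (G ⊔ R) G (GP G d c) le_sup_left hΓn (GP_le_self c) (normal c hc) hirr.2
  obtain ⟨b₀, hb₀, hab₀⟩ := exists_pair hs hpa ha₀
  have hoddR := odd_of_coprime_pair hp5 hI.co ha₀ hb₀ hab₀
  -- the element centralises every component
  have hcen : ∀ a, Qd G d a → y ∈ Subgroup.centralizer (GP G d a : Set GL') := by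
    intro a ha
    obtain ⟨x, z, hcx, qx, qz, hxz, hfix⟩ := exists_fixed_pair hp5 hs hpa ha (S := R ⊓ Stb G d a) inf_le_right
      (hI.co.coprime_dvd_right (Subgroup.card_dvd_of_le inf_le_left))
      (hoddR.of_dvd_nat (Subgroup.card_dvd_of_le inf_le_left))
    have D : PairData G R d x z := ⟨h3, hs, hpa, hRn, qx, qz, hxz,
      fun s hs' h => hfix s ⟨hs', mem_Stb (hRn hs') hcx (hcx.trans h)⟩, normal, cover, hcore, hcoreX⟩
    have h := D.centralises_GP hL hF hI hB
    rwa [show GP G d x = GP G d a by rw [GP, GP, part_eq hcx]] at h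
  have hyC : y ∈ C := by
    refine ⟨hI.mem, ?_⟩
    have hle : GS G d ≤ Subgroup.centralizer ({y} : Set GL') := iSup₂_le fun A ⟨e, he, eA⟩ f hf => by
      subst eA
      exact Subgroup.mem_centralizer_singleton_iff.2
        (Subgroup.mem_centralizer_iff.1 (hcen e he) f (Rg_le_GP Relation.ReflTransGen.refl hf))
    exact Subgroup.mem_centralizer_iff.2 fun f hf => Subgroup.mem_centralizer_singleton_iff.1 (hle hf)
  refine hfail inf_le_left (fun e => ?_) hCn hyC
  obtain ⟨j, hj⟩ := flagOf_pGroup G a₀ ⟨u1 a₀ ha₀.sq, Rg_le _ (rg_u1 ha₀), EquivQuad.mem_flag.2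
    ⟨fun v => by simp [show a₀ (a₀ v) = 0 from LinearMap.congr_fun ha₀.sq v],
      fun v hv => by simp [LinearMap.mem_ker.1 hv],
      fun v hv => by
        obtain ⟨w, rfl⟩ := hv
        simp [show a₀ (a₀ w) = 0 from LinearMap.congr_fun ha₀.sq w]⟩⟩
  refine ha₀.ne (add_eq_left.1 ((u1_val a₀ ha₀.sq).symm.trans ?_))
  rw [eq_one_of_central hpc (Rg_le _ (rg_u1 ha₀)) ⟨j, congrArg Subtype.val hj⟩ (fun f hf => ?_), Units.val_one]
  rw [← e] at hf
  exact (Subgroup.mem_centralizer_iff.1 hf.2 _ (Rg_le_GS ha₀ (rg_u1 ha₀))).symm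

end

theorem leviInput : LeviInput p := fun M _ _ _ G d a b F Z hZ hZp hn => F.levi_pCore hZ hZp hn

theorem flagInput : FlagInput p := fun M _ _ _ G d a b F u hu hc => F.flag_center hu hc

theorem below (hp5 : 5 ≤ p) : ∀ n, Below p n := by
  intro n
  induction n with
  | zero => intro M _ _ _ G R y h; omega
  | succ n ih =>
    intro M _ _ _ G R y hlt hI
    have hB : Below p (Nat.card G + Module.finrank (ZMod p) M) := fun M' _ _ _ G' R' y' h' hI' =>
      ih M' G' R' y' (by omega) hI'
    by_cases hy : y = 1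
    · rw [hy]; exact one_mem _
    by_cases hW : ∀ W : Submodule (ZMod p) M, (∀ g ∈ G ⊔ R, ∀ w ∈ W, (g : Module.End (ZMod p) M) w ∈ W) →
        W = ⊥ ∨ W = ⊤
    · refine mem_core_of_irreducible hp5 leviInput flagInput hI hB ⟨?_, hW⟩
      by_contra h0
      push Not at h0
      exact hy (Units.ext (LinearMap.ext fun v => (h0 _).trans (h0 _).symm))
    · simp only [not_forall, not_or] at hW
      obtain ⟨W, hinv, h0, h1⟩ := hW
      exact mem_core_of_submodule hI hB h0 h1 hinv

/-- The linear input of the equivariant K-infinity theorem. -/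
theorem linearCore (hp5 : 5 ≤ p) : LinearCore p := fun M _ _ _ G R y hn hco hy hsq hsyl =>
  below hp5 (Nat.card G + Module.finrank (ZMod p) M + 1) M G R y (by omega) ⟨hn, hco, hy, hsq, hsyl⟩

end Cfsg.Agent.EquivParabolic
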