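import Cfsg.Agent.Lib.Local.EquivParabolic.Statement
import Cfsg.Agent.Lib.Local.EquivStable

/-!
# Images and restrictions of the linear input
-/

set_option autoImplicit false
set_option linter.unusedSectionVars false
set_option linter.style.haveILetI false
set_option linter.unusedVariables false

namespace Cfsg.Agent.EquivParabolic

open Cfsg

section Group

variable {Γ : Type*} [Group Γ] [Finite Γ] {p : ℕ} [hp : Fact p.Prime]

/-- The largest normal `p`-subgroup of a subgroup, as a subgroup. -/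
def coreOf (p : ℕ) {Γ : Type*} [Group Γ] (H : Subgroup Γ) : Subgroup Γ :=
  (Cfsg.pCore p H).map H.subtype

theorem coreOf_le (H : Subgroup Γ) : coreOf p H ≤ H := Subgroup.map_subtype_le _

theorem coreOf_isPGroup (H : Subgroup Γ) : IsPGroup p (coreOf p H) := (Fusion.isPGroup_pCore p H).map _

theorem le_coreOf {H N : Subgroup Γ} (hNH : N ≤ H) (hn : H ≤ Subgroup.normalizer (N : Set Γ))
    (hN : IsPGroup p N) : N ≤ coreOf p H := by
  haveI : (N.subgroupOf H).Normal := Subgroup.normal_subgroupOf_of_le_normalizer hn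
  have := Fusion.le_pCore (p := p) (N := N.subgroupOf H)
    (hN.of_equiv (Subgroup.subgroupOfEquivOfLe hNH).symm)
  exact fun x hx => ⟨⟨x, hNH hx⟩, this (Subgroup.mem_subgroupOf.2 hx), rfl⟩

theorem le_normalizer_of_conj {A H : Subgroup Γ} (h : ∀ g ∈ A, ∀ x ∈ H, g * x * g⁻¹ ∈ H) :
    A ≤ Subgroup.normalizer (H : Set Γ) := fun g hg => by
  refine Subgroup.mem_normalizer_iff.2 fun x => ⟨fun hx => h g hg x hx, fun hx => ?_⟩
  have := h g⁻¹ (inv_mem hg) _ hx
  simpa [mul_assoc] using this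

theorem coreOf_normalized {A H : Subgroup Γ} (h : A ≤ Subgroup.normalizer (H : Set Γ)) :
    A ≤ Subgroup.normalizer ((coreOf p H : Subgroup Γ) : Set Γ) :=
  le_normalizer_of_conj fun _ hg _ hx => EquivZJ.conj_mem_pCoreOf (h hg) hx

theorem coreOf_mono {H K : Subgroup Γ} (hKH : K ≤ H) (h : H ≤ Subgroup.normalizer (K : Set Γ)) :
    coreOf p K ≤ coreOf p H :=
  le_coreOf ((coreOf_le K).trans hKH) (coreOf_normalized h) (coreOf_isPGroup K)

theorem pCore_eq_bot {H : Subgroup Γ} (h : coreOf p H = ⊥) : Cfsg.pCore p H = ⊥ :=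
  (Subgroup.map_eq_bot_iff_of_injective _ H.subtype_injective).1 h

variable {G R : Subgroup Γ}

/-- An element of all invariant Sylow subgroups lies in those of an invariant subgroup containing it. -/
theorem mem_invariant_sylow (hRG : R ≤ Subgroup.normalizer (G : Set Γ))
    (hco : (Nat.card G).Coprime (Nat.card R)) {y : Γ}
    (hy : ∀ S, Solv.IsSylIn p S G → R ≤ Subgroup.normalizer (S : Set Γ) → y ∈ S) {K : Subgroup Γ}
    (hKG : K ≤ G) (hyK : y ∈ K) {S : Subgroup Γ} (hS : Solv.IsSylIn p S K)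
    (hSR : R ≤ Subgroup.normalizer (S : Set Γ)) : y ∈ S := by
  obtain ⟨T, hT, hST, hTR⟩ := Solv.exists_invariant_sylow_ge hRG hco.symm (EquivZJ.solvable_or hco.symm) S
    (hS.1.trans hKG) hS.isPGroup hSR
  rw [hS.eq_of_le (hT.isPGroup.to_le (inf_le_left : T ⊓ K ≤ T)) inf_le_right (le_inf hST hS.1)]
  exact ⟨hy T hT hTR, hyK⟩

/-- Invariant Sylow subgroups of an image. -/
theorem mem_invariant_sylow_map {Δ : Type*} [Group Δ] (hRG : R ≤ Subgroup.normalizer (G : Set Γ))
    (hco : (Nat.card G).Coprime (Nat.card R)) {y : Γ}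
    (hy : ∀ S, Solv.IsSylIn p S G → R ≤ Subgroup.normalizer (S : Set Γ) → y ∈ S) (hyG : y ∈ G)
    (f : Γ →* Δ) [Finite Δ] {S' : Subgroup Δ} (hS : Solv.IsSylIn p S' (G.map f))
    (hSR : R.map f ≤ Subgroup.normalizer (S' : Set Δ)) : f y ∈ S' := by
  set K := G ⊓ S'.comap f with hK
  have hKG : K ≤ G := inf_le_left
  have hKR : R ≤ Subgroup.normalizer (K : Set Γ) := le_normalizer_of_conj fun r hr x hx => by
    refine ⟨(Subgroup.mem_normalizer_iff.1 (hRG hr) x).1 hx.1, ?_⟩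
    show f (r * x * r⁻¹) ∈ S'
    rw [map_mul, map_mul, map_inv]
    exact (Subgroup.mem_normalizer_iff.1 (hSR ⟨r, hr, rfl⟩) (f x)).1 hx.2
  have hcoK := hco.coprime_dvd_left (Subgroup.card_dvd_of_le hKG)
  obtain ⟨T₀, hT₀, hT₀R⟩ := Solv.exists_invariant_sylow hKR hcoK.symm (EquivZJ.solvable_or hcoK.symm) p
  obtain ⟨T, hT, h₀, hTR⟩ := Solv.exists_invariant_sylow_ge hRG hco.symm (EquivZJ.solvable_or hco.symm) T₀
    (hT₀.1.trans hKG) hT₀.isPGroup hT₀R
  obtain ⟨Q, hQ⟩ := hT₀.exists_sylow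
  let Q' := Q.mapSurjective (MonoidHom.subgroupMap_surjective f K)
  have hKS : IsPGroup p (K.map f) := hS.isPGroup.to_le (Subgroup.map_le_iff_le_comap.2 inf_le_right)
  have hQ' : (Q' : Subgroup (K.map f)) = ⊤ :=
    (Q'.is_maximal' (hKS.to_subgroup ⊤) le_top).symm
  have hle : S' ≤ T.map f := by
    intro s hs
    obtain ⟨g, hg, rfl⟩ := hS.1 hs
    have hmem : (⟨f g, ⟨g, ⟨hg, hs⟩, rfl⟩⟩ : K.map f) ∈ (Q' : Subgroup (K.map f)) := hQ' ▸ trivial
    rw [Sylow.coe_mapSurjective] at hmem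
    obtain ⟨t, ht, he⟩ := hmem
    exact ⟨t, h₀ (hQ ▸ ⟨t, ht, rfl⟩), congrArg Subtype.val he⟩
  rw [hS.eq_of_le (hT.isPGroup.map f) (Subgroup.map_mono hT.1) hle]
  exact ⟨y, hy T hT hTR, rfl⟩

end Group

variable {p : ℕ} [Fact p.Prime]

/-- The hypotheses of the linear input. -/
structure Inp {M : Type} [AddCommGroup M] [Module (ZMod p) M]
    (G R : Subgroup (LinearMap.GeneralLinearGroup (ZMod p) M))
    (y : LinearMap.GeneralLinearGroup (ZMod p) M) : Prop where
  norm : R ≤ Subgroup.normalizer (G : Set (LinearMap.GeneralLinearGroup (ZMod p) M))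
  co : (Nat.card G).Coprime (Nat.card R)
  mem : y ∈ G
  sq : ((y : Module.End (ZMod p) M) - 1) * ((y : Module.End (ZMod p) M) - 1) = 0
  syl : ∀ S : Subgroup (LinearMap.GeneralLinearGroup (ZMod p) M), Solv.IsSylIn p S G →
    R ≤ Subgroup.normalizer (S : Set (LinearMap.GeneralLinearGroup (ZMod p) M)) → y ∈ S

/-- The linear input below a size. -/
def Below (p n : ℕ) [Fact p.Prime] : Prop :=
  ∀ (M : Type) [AddCommGroup M] [Module (ZMod p) M] [Module.Finite (ZMod p) M]
    (G R : Subgroup (LinearMap.GeneralLinearGroup (ZMod p) M))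
    (y : LinearMap.GeneralLinearGroup (ZMod p) M),
    Nat.card G + Module.finrank (ZMod p) M < n → Inp G R y → y ∈ coreOf p G

section

variable {M : Type} [AddCommGroup M] [Module (ZMod p) M] [Module.Finite (ZMod p) M]

local notation "k" => ZMod p
local notation "End'" => Module.End k M
local notation "GL'" => LinearMap.GeneralLinearGroup k M

variable {G R : Subgroup (LinearMap.GeneralLinearGroup (ZMod p) M)}
  {y : LinearMap.GeneralLinearGroup (ZMod p) M}

instance finite_gl : Finite (LinearMap.GeneralLinearGroup (ZMod p) M) := by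
  haveI : Finite M := Module.finite_of_finite (ZMod p)
  haveI : Finite (Module.End (ZMod p) M) :=
    Finite.of_injective (fun f => (f : M → M)) DFunLike.coe_injective
  exact inferInstanceAs (Finite (Module.End (ZMod p) M)ˣ)

theorem Inp.sub (h : Inp G R y) {K : Subgroup GL'} (hKG : K ≤ G) (hKR : R ≤ Subgroup.normalizer (K : Set GL'))
    (hyK : y ∈ K) : Inp K R y :=
  ⟨hKR, h.co.coprime_dvd_left (Subgroup.card_dvd_of_le hKG), hyK, h.sq,
    fun _ hS hSR => mem_invariant_sylow h.norm h.co h.syl hKG hyK hS hSR⟩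

theorem Inp.mem_core_of_lt (h : Inp G R y) (hB : Below p (Nat.card G + Module.finrank k M)) {K : Subgroup GL'}
    (hKG : K ≤ G) (hne : K ≠ G) (hKR : R ≤ Subgroup.normalizer (K : Set GL')) (hyK : y ∈ K) : y ∈ coreOf p K := by
  refine hB M K R y (Nat.add_lt_add_right ?_ _) (h.sub hKG hKR hyK)
  exact lt_of_le_of_ne (Subgroup.card_le_of_le hKG) fun e => hne (Subgroup.eq_of_le_of_card_ge hKG e.ge)

theorem pow_val {g : GL'} (hsq : ((g : End') - 1) * ((g : End') - 1) = 0) : g ^ p = 1 := by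
  have key : ∀ n : ℕ, ((g ^ n : GL') : End') = 1 + (n : k) • ((g : End') - 1) := by
    intro n
    induction n with
    | zero => simp
    | succ n ih =>
      rw [pow_succ, Units.val_mul, ih, Nat.cast_succ, add_smul, one_smul]
      conv_lhs => arg 2; rw [← add_sub_cancel (1 : End') (g : End')]
      rw [mul_add, mul_one, add_mul, one_mul, smul_mul_assoc, hsq, smul_zero, add_zero, add_assoc]
  exact Units.ext (by rw [key, ZMod.natCast_self, zero_smul, add_zero, Units.val_one])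

theorem mem_core_of_submodule (h : Inp G R y) (hB : Below p (Nat.card G + Module.finrank k M))
    {W : Submodule k M} (hW0 : W ≠ ⊥) (hW1 : W ≠ ⊤)
    (hW : ∀ g ∈ G ⊔ R, ∀ w ∈ W, (g : End') w ∈ W) : y ∈ coreOf p G := by
  set Γ := G ⊔ R
  have hW' : ∀ g : Γ, ∀ w ∈ W, ((g : GL') : End') w ∈ W := fun g => hW g g.2
  let aW : Γ →* Module.End k W :=
    { toFun := fun g => ((g : GL') : End').restrict (hW' g)
      map_one' := LinearMap.ext fun w => Subtype.ext rfl
      map_mul' := fun g g' => LinearMap.ext fun w => Subtype.ext rfl }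
  let aQ : Γ →* Module.End k (M ⧸ W) :=
    { toFun := fun g => W.mapQ W ((g : GL') : End') (hW' g)
      map_one' := Submodule.linearMap_qext _ (LinearMap.ext fun v => rfl)
      map_mul' := fun g g' => Submodule.linearMap_qext _ (LinearMap.ext fun v => rfl) }
  set G₀ := G.subgroupOf Γ
  set R₀ := R.subgroupOf Γ
  have hG : G ≤ Γ := le_sup_left
  have hR : R ≤ Γ := le_sup_right
  set y₀ : Γ := ⟨y, hG h.mem⟩
  have hn₀ : R₀ ≤ Subgroup.normalizer (G₀ : Set Γ) := le_normalizer_of_conj fun g hg x hx =>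
    (Subgroup.mem_normalizer_iff.1 (h.norm hg) (x : GL')).1 hx
  have hco₀ : (Nat.card G₀).Coprime (Nat.card R₀) := by
    rw [Solv.card_subgroupOf hG, Solv.card_subgroupOf hR]; exact h.co
  have hy₀ : ∀ S, Solv.IsSylIn p S G₀ → R₀ ≤ Subgroup.normalizer (S : Set Γ) → y₀ ∈ S := by
    intro S hS hSR
    have h1 : Solv.IsSylIn p (S.map Γ.subtype) G := by
      refine ⟨(Subgroup.map_mono hS.1).trans (Subgroup.map_subgroupOf_eq_of_le hG).le, ?_⟩
      rw [Solv.card_map_subtype, hS.2, Solv.card_subgroupOf hG]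
    obtain ⟨x, hx, he⟩ := h.syl _ h1 (le_normalizer_of_conj fun r hr _ ⟨x, hx, e⟩ =>
      ⟨⟨r, hR hr⟩ * x * ⟨r, hR hr⟩⁻¹,
        (Subgroup.mem_normalizer_iff.1 (hSR (show (⟨r, hR hr⟩ : Γ) ∈ R₀ from hr)) x).1 hx, by rw [← e]; rfl⟩)
    rwa [show y₀ = x from Subtype.ext he.symm]
  have step : ∀ (N : Type) [AddCommGroup N] [Module k N] [Module.Finite k N]
      (f : Γ →* LinearMap.GeneralLinearGroup k N), Module.finrank k N < Module.finrank k M →
      ((f y₀ : Module.End k N) - 1) * ((f y₀ : Module.End k N) - 1) = 0 →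
      f y₀ ∈ coreOf p (G₀.map f) := by
    intro N _ _ _ f hN hsq
    refine hB N (G₀.map f) (R₀.map f) (f y₀) ?_ ⟨?_, ?_, ⟨y₀, h.mem, rfl⟩, hsq,
      fun S hS hSR => mem_invariant_sylow_map hn₀ hco₀ hy₀ h.mem f hS hSR⟩
    · have h1 := Nat.le_of_dvd Nat.card_pos (Subgroup.card_map_dvd (H := G₀) f)
      rw [Solv.card_subgroupOf hG] at h1
      omega
    · refine le_normalizer_of_conj ?_
      rintro _ ⟨r, hr, rfl⟩ _ ⟨x, hx, rfl⟩
      exact ⟨r * x * r⁻¹, (Subgroup.mem_normalizer_iff.1 (hn₀ hr) x).1 hx, by rw [map_mul, map_mul, map_inv]⟩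
    · exact (hco₀.coprime_dvd_left (Subgroup.card_map_dvd (H := G₀) f)).coprime_dvd_right
        (Subgroup.card_map_dvd (H := R₀) f)
  have hdim := W.finrank_quotient_add_finrank
  have hWpos : 0 < Module.finrank k W := Nat.pos_iff_ne_zero.2 fun e => hW0 (Submodule.finrank_eq_zero.1 e)
  have hWlt := Submodule.finrank_lt hW1
  have hsq1 : ((y : End') - 1) * ((y : End') - 1) = 0 := h.sq
  have s1 := step W aW.toHomUnits hWlt (LinearMap.ext fun w => Subtype.ext (LinearMap.congr_fun hsq1 w))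
  have s2 := step (M ⧸ W) aQ.toHomUnits (by omega) (Submodule.linearMap_qext _ (LinearMap.ext fun v =>
    congrArg (Submodule.Quotient.mk) (LinearMap.congr_fun hsq1 v)))
  set f₁ := aW.toHomUnits
  set f₂ := aQ.toHomUnits
  set N₀ := G₀ ⊓ (coreOf p (G₀.map f₁)).comap f₁ ⊓ (coreOf p (G₀.map f₂)).comap f₂
  have hNn : ∀ g ∈ G, ∀ x ∈ N₀.map Γ.subtype, g * x * g⁻¹ ∈ N₀.map Γ.subtype := by
    rintro g hg _ ⟨x, hx, rfl⟩
    refine ⟨⟨g, hG hg⟩ * x * ⟨g, hG hg⟩⁻¹, ?_, rfl⟩
    have hg₀ : (⟨g, hG hg⟩ : Γ) ∈ G₀ := hg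
    refine Subgroup.mem_inf.2 ⟨Subgroup.mem_inf.2 ⟨G₀.mul_mem (G₀.mul_mem hg₀ hx.1.1) (G₀.inv_mem hg₀), ?_⟩, ?_⟩
    · rw [Subgroup.mem_comap, map_mul, map_mul, map_inv]
      exact EquivZJ.conj_mem_pCoreOf (Subgroup.le_normalizer (Subgroup.mem_map_of_mem f₁ hg₀)) hx.1.2
    · rw [Subgroup.mem_comap, map_mul, map_mul, map_inv]
      exact EquivZJ.conj_mem_pCoreOf (Subgroup.le_normalizer (Subgroup.mem_map_of_mem f₂ hg₀)) hx.2
  refine le_coreOf ?_ (le_normalizer_of_conj hNn) ?_ ⟨y₀, ⟨⟨h.mem, s1⟩, s2⟩, rfl⟩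
  · rintro _ ⟨x, hx, rfl⟩
    exact hx.1.1
  · rintro ⟨_, x, hx, rfl⟩
    obtain ⟨i, hi⟩ := coreOf_isPGroup (p := p) (G₀.map f₁) ⟨f₁ x, hx.1.2⟩
    obtain ⟨j, hj⟩ := coreOf_isPGroup (p := p) (G₀.map f₂) ⟨f₂ x, hx.2⟩
    have hi' : f₁ x ^ p ^ i = 1 := congrArg Subtype.val hi
    have hj' : f₂ x ^ p ^ j = 1 := congrArg Subtype.val hj
    set g := x ^ p ^ (i + j)
    have e1 : f₁ g = 1 := by rw [map_pow, pow_add, pow_mul, hi', one_pow]
    have e2 : f₂ g = 1 := by rw [map_pow, add_comm, pow_add, pow_mul, hj', one_pow]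
    have hsq2 : (((g : GL') : End') - 1) * (((g : GL') : End') - 1) = 0 := LinearMap.ext fun v => by
      have hv : ((g : GL') : End') v - v ∈ W := by
        rw [← Submodule.Quotient.eq]
        exact LinearMap.congr_fun (congrArg (fun u : (Module.End k (M ⧸ W))ˣ => (u : Module.End k (M ⧸ W))) e2)
          (Submodule.Quotient.mk v)
      have hw := congrArg Subtype.val (LinearMap.congr_fun
        (congrArg (fun u : (Module.End k W)ˣ => (u : Module.End k W)) e1) ⟨_, hv⟩)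
      change ((g : GL') : End') (((g : GL') : End') v - v) = _ at hw
      rw [Module.End.mul_apply, LinearMap.sub_apply, LinearMap.sub_apply, Module.End.one_apply,
        Module.End.one_apply, hw]
      exact sub_self _
    refine ⟨i + j + 1, Subtype.ext ?_⟩
    show (x : GL') ^ p ^ (i + j + 1) = 1
    rw [pow_succ, pow_mul]
    exact pow_val hsq2

end

end Cfsg.Agent.EquivParabolic
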