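import Mathlib

/-!
# Clifford: normal subgroups of irreducible linear groups act completely reducibly, also iterated
-/

set_option autoImplicit false

namespace Cfsg.Agent.EquivParabolic

variable {k M : Type*} [Field k] [AddCommGroup M] [Module k M]

local notation "GL'" => LinearMap.GeneralLinearGroup k M

/-- `W` is invariant under `X`. -/
private def Inv (X : Subgroup GL') (W : Submodule k M) : Prop :=
  ∀ g ∈ X, ∀ w ∈ W, (g : Module.End k M) w ∈ W

/-- `U` is a minimal nonzero invariant submodule. -/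
private def Minimal' (X : Subgroup GL') (U : Submodule k M) : Prop :=
  U ≠ ⊥ ∧ Inv X U ∧ ∀ V : Submodule k M, V ≤ U → Inv X V → V = ⊥ ∨ V = U

/-- The join of the minimal invariant submodules. -/
private def socle (X : Subgroup GL') : Submodule k M := sSup {U | Minimal' X U}

private theorem Inv.sup {X : Subgroup GL'} {V W : Submodule k M} (hV : Inv X V) (hW : Inv X W) :
    Inv X (V ⊔ W) := by
  intro g hg w hw
  obtain ⟨v, hv, u, hu, rfl⟩ := Submodule.mem_sup.1 hw
  rw [map_add]
  exact Submodule.add_mem_sup (hV g hg v hv) (hW g hg u hu)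

private theorem Inv.inf {X : Subgroup GL'} {V W : Submodule k M} (hV : Inv X V) (hW : Inv X W) :
    Inv X (V ⊓ W) := fun g hg w hw => ⟨hV g hg w hw.1, hW g hg w hw.2⟩

private theorem inv_map {X : Subgroup GL'} {W : Submodule k M} {g : GL'}
    (hg : g ∈ Subgroup.normalizer (X : Set GL')) (hW : Inv X W) :
    Inv X (W.map (g : Module.End k M)) := by
  rintro x hx _ ⟨w, hw, rfl⟩
  have hx' : g⁻¹ * x * g ∈ X := by
    rw [Subgroup.mem_normalizer_iff.1 hg]
    rwa [show g * (g⁻¹ * x * g) * g⁻¹ = x by group]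
  refine ⟨((g⁻¹ * x * g : GL') : Module.End k M) w, hW _ hx' w hw, ?_⟩
  rw [← Module.End.mul_apply, ← Units.val_mul, show g * (g⁻¹ * x * g) = x * g by group,
    Units.val_mul, Module.End.mul_apply]

private theorem map_inv_map (g : GL') (W : Submodule k M) :
    (W.map ((g⁻¹ : GL') : Module.End k M)).map (g : Module.End k M) = W := by
  rw [← Submodule.map_comp, ← Module.End.mul_eq_comp, ← Units.val_mul, mul_inv_cancel, Units.val_one,
    Module.End.one_eq_id, Submodule.map_id]

private theorem minimal_map {X : Subgroup GL'} {U : Submodule k M} {g : GL'}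
    (hg : g ∈ Subgroup.normalizer (X : Set GL')) (hU : Minimal' X U) :
    Minimal' X (U.map (g : Module.End k M)) := by
  refine ⟨fun h => hU.1 ?_, inv_map hg hU.2.1, fun V hV hVi => ?_⟩
  · rw [← map_inv_map g⁻¹ U, inv_inv, h, Submodule.map_bot]
  · have hle : V.map ((g⁻¹ : GL') : Module.End k M) ≤ U := by
      refine (Submodule.map_mono hV).trans ?_
      have h := map_inv_map g⁻¹ U
      rw [inv_inv] at h
      exact h.le
    rcases hU.2.2 _ hle (inv_map (inv_mem hg) hVi) with h | h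
    · left; rw [← map_inv_map g V, h, Submodule.map_bot]
    · right; rw [← map_inv_map g V, h]

private theorem socle_inv {X N : Subgroup GL'} (hX : N ≤ Subgroup.normalizer (X : Set GL')) :
    Inv N (socle X) := by
  intro g hg w hw
  have hle : (socle X).map (g : Module.End k M) ≤ socle X := by
    rw [Submodule.map_le_iff_le_comap]
    exact sSup_le fun U hU => Submodule.map_le_iff_le_comap.1 (le_sSup (minimal_map (hX hg) hU))
  exact hle ⟨w, hw, rfl⟩

private theorem exists_minimal_le [FiniteDimensional k M] {X : Subgroup GL'} {W : Submodule k M}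
    (hW : Inv X W) (hne : W ≠ ⊥) : ∃ U : Submodule k M, U ≤ W ∧ Minimal' X U := by
  obtain ⟨U, ⟨hUW, hUne, hUi⟩, hmin⟩ :=
    (inferInstance : WellFoundedLT (Submodule k M)).wf.has_min
      {U : Submodule k M | U ≤ W ∧ U ≠ ⊥ ∧ Inv X U} ⟨W, le_rfl, hne, hW⟩
  refine ⟨U, hUW, hUne, hUi, fun V hV hVi => ?_⟩
  by_contra hcon
  push Not at hcon
  exact hmin V ⟨hV.trans hUW, hcon.1, hVi⟩ (lt_of_le_of_ne hV hcon.2)

private theorem socle_top_of_socle_top [FiniteDimensional k M] {X N : Subgroup GL'} (hXN : X ≤ N)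
    (hX : N ≤ Subgroup.normalizer (X : Set GL')) (h : socle N = ⊤) : socle X = ⊤ := by
  refine top_le_iff.1 (h.ge.trans (sSup_le fun U hU => ?_))
  obtain ⟨U₀, hU₀, hmin⟩ := exists_minimal_le (fun g hg => hU.2.1 g (hXN hg)) hU.1
  rcases hU.2.2 (U ⊓ socle X) inf_le_left (hU.2.1.inf (socle_inv hX)) with h0 | h0
  · exact absurd (le_bot_iff.1 (h0 ▸ le_inf hU₀ (le_sSup hmin))) hmin.1
  · exact inf_eq_left.1 h0

private theorem exists_isCompl_of_socle [FiniteDimensional k M] {X : Subgroup GL'}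
    (h : socle X = ⊤) {W : Submodule k M} (hW : Inv X W) :
    ∃ W' : Submodule k M, Inv X W' ∧ IsCompl W W' := by
  obtain ⟨W', ⟨hW'i, hdisj⟩, hmax⟩ :=
    (inferInstance : WellFoundedGT (Submodule k M)).wf.has_min
      {V : Submodule k M | Inv X V ∧ W ⊓ V = ⊥}
      ⟨⊥, fun g _ w hw => by simp [(Submodule.mem_bot k).1 hw], inf_bot_eq W⟩
  refine ⟨W', hW'i, disjoint_iff.2 hdisj, codisjoint_iff.2 (top_le_iff.1 (h.ge.trans (sSup_le fun U hU => ?_)))⟩
  rcases hU.2.2 (U ⊓ (W ⊔ W')) inf_le_left (hU.2.1.inf (hW.sup hW'i)) with h0 | h0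
  swap
  · exact inf_eq_left.1 h0
  exfalso
  refine hmax (W' ⊔ U) ⟨hW'i.sup hU.2.1, ?_⟩ (left_lt_sup.2 fun hle => hU.1 ?_)
  · refine (Submodule.eq_bot_iff _).2 fun x hx => ?_
    obtain ⟨a, ha, u, hu, rfl⟩ := Submodule.mem_sup.1 hx.2
    have hu' : u ∈ U ⊓ (W ⊔ W') := by
      refine ⟨hu, ?_⟩
      have := sub_mem (Submodule.mem_sup_left hx.1 : a + u ∈ W ⊔ W') (Submodule.mem_sup_right ha)
      simpa using this
    rw [h0, Submodule.mem_bot] at hu'
    subst hu'
    rw [add_zero] at hx ⊢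
    exact (Submodule.mem_bot k).1 (hdisj ▸ (⟨hx.1, ha⟩ : a ∈ W ⊓ W'))
  · rw [← h0, eq_comm, inf_eq_left]
    exact hle.trans le_sup_right

/-- A subgroup normal in a normal subgroup of an irreducible linear group acts completely
reducibly. -/
theorem exists_isCompl_of_normal {k M : Type*} [Field k] [AddCommGroup M] [Module k M]
    [FiniteDimensional k M]
    (Γ N X : Subgroup (LinearMap.GeneralLinearGroup k M)) (hNΓ : N ≤ Γ)
    (hN : Γ ≤ Subgroup.normalizer (N : Set (LinearMap.GeneralLinearGroup k M))) (hXN : X ≤ N)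
    (hX : N ≤ Subgroup.normalizer (X : Set (LinearMap.GeneralLinearGroup k M)))
    (hirr : ∀ W : Submodule k M, (∀ g ∈ Γ, ∀ w ∈ W, (g : Module.End k M) w ∈ W) → W = ⊥ ∨ W = ⊤) :
    ∀ W : Submodule k M, (∀ g ∈ X, ∀ w ∈ W, (g : Module.End k M) w ∈ W) →
      ∃ W' : Submodule k M, (∀ g ∈ X, ∀ w ∈ W', (g : Module.End k M) w ∈ W') ∧ IsCompl W W' := by
  intro W hW
  have hN' : socle N = ⊤ := by
    rcases hirr (socle N) (socle_inv hN) with h | h
    · refine top_le_iff.1 ?_
      by_contra hne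
      have htop : (⊤ : Submodule k M) ≠ ⊥ := fun he => hne (he ▸ bot_le)
      obtain ⟨U, -, hU⟩ := exists_minimal_le (X := N) (W := (⊤ : Submodule k M))
        (fun _ _ _ _ => trivial) htop
      exact hU.1 (le_bot_iff.1 (h ▸ le_sSup hU))
    · exact h
  exact exists_isCompl_of_socle (socle_top_of_socle_top hXN hX hN') hW

end Cfsg.Agent.EquivParabolic
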