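import Cfsg.Agent.Lib.Local.EquivParabolic.Component
import Cfsg.Agent.Lib.Local.EquivParabolic.Restrict
import Cfsg.Agent.Lib.Local.EquivParabolic.Semisimple

/-!
# Invariant families of pairs in the components
-/

set_option autoImplicit false
set_option linter.unusedSectionVars false
set_option linter.unusedVariables false
set_option linter.style.haveILetI false
set_option maxHeartbeats 400000

namespace Cfsg.Agent.EquivParabolic

open Cfsg Cfsg.Agent.Lead.QP Cfsg.Agent.EquivQuad Cfsg.Agent.RootParabolic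

variable {p : ℕ} [hp : Fact p.Prime] {M : Type} [AddCommGroup M] [Module (ZMod p) M] [Module.Finite (ZMod p) M]

local notation "k" => ZMod p
local notation "End'" => Module.End k M
local notation "GL'" => LinearMap.GeneralLinearGroup k M

/-- A `p`-group in the Levi subgroup of a frame normalised by it is trivial. -/
def LeviInput (p : ℕ) [Fact p.Prime] : Prop :=
  ∀ (M : Type) [AddCommGroup M] [Module (ZMod p) M] [Module.Finite (ZMod p) M]
    (G : Subgroup (LinearMap.GeneralLinearGroup (ZMod p) M)) (d : ℕ) (a b : Module.End (ZMod p) M),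
    Frame G d a b → ∀ Z : Subgroup (LinearMap.GeneralLinearGroup (ZMod p) M), Z ≤ Levi G a b → IsPGroup p Z →
      Levi G a b ≤ Subgroup.normalizer (Z : Set (LinearMap.GeneralLinearGroup (ZMod p) M)) → Z = ⊥

/-- The centre of the flag group of a frame lies in the root group. -/
def FlagInput (p : ℕ) [Fact p.Prime] : Prop :=
  ∀ (M : Type) [AddCommGroup M] [Module (ZMod p) M] [Module.Finite (ZMod p) M]
    (G : Subgroup (LinearMap.GeneralLinearGroup (ZMod p) M)) (d : ℕ) (a b : Module.End (ZMod p) M),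
    Frame G d a b → ∀ u ∈ flagOf G a, (∀ v ∈ flagOf G a, u * v = v * u) → u ∈ Rg G a

variable {G R : Subgroup (LinearMap.GeneralLinearGroup (ZMod p) M)} {d : ℕ}
  {y : LinearMap.GeneralLinearGroup (ZMod p) M} {a x z : Module.End (ZMod p) M}

/-- An element normalises a root group exactly when it carries the root into the root space. -/
theorem mem_norm_iff (hs : QS G d) {c : End'} (hc : Qd G d c) {g : GL'} (hg : g ∈ G) :
    g ∈ Subgroup.normalizer (Rg G c : Set GL') ↔ cj g c ∈ Rt G c := by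
  have hn := Subgroup.le_normalizer (H := G) hg
  constructor
  · intro h
    have h1 : conjBy (Rg G c) g = Rg G c := by
      refine le_antisymm ?_ fun x hx => ⟨g⁻¹ * x * g, ?_, by simp [mul_assoc]⟩
      · rintro _ ⟨x, hx, rfl⟩
        exact (Subgroup.mem_normalizer_iff.1 h x).1 hx
      · simpa using (Subgroup.mem_normalizer_iff.1 (inv_mem h) x).1 hx
    rw [conjBy_Rg hc.sq hn] at h1
    rw [← Rt_of_Rg_eq h1]
    exact (hc.cj hn).self_mem
  · intro h
    refine conjBy_eq ?_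
    rw [conjBy_Rg hc.sq hn, Rg_congr (Rt_eq_of_mem hs hc h (hc.cj hn).ne)]

/-- Mutually inverse elements of two opposite root spaces give the same idempotents. -/
theorem e₁_eq (F : Frame G d x z) {x' z' : End'} (hx : x' ∈ Rt G x) (hz : z' ∈ Rt G z) (hx0 : x' ≠ 0)
    (h : IsPair x' z') : e₁ x' z' = e₁ x z ∧ e₁ z' x' = e₁ z x := by
  obtain ⟨y₀, hy₀, -, -, -, e1, e2⟩ := F.rt_inverse hx hx0
  have h1 : x' * z' * x' * y₀ = -(x' * z') := by
    rw [mul_assoc, e1, mul_neg, mul_assoc, F.rb_right hz]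
  have h2 : y₀ * (x' * z' * x') = -(z' * x') := by
    rw [← mul_assoc, ← mul_assoc, e2, neg_mul, neg_mul, F.rb_left hz]
  rw [h.xyx, neg_mul, e1, neg_neg] at h1
  rw [h.xyx, mul_neg, e2, neg_neg] at h2
  exact ⟨by rw [show e₁ x' z' = -(x' * z') from rfl, ← h1],
    by rw [show e₁ z' x' = -(z' * x') from rfl, ← h2]⟩

theorem rg_u1 {c : End'} (hc : Qd G d c) : u1 c hc.sq ∈ Rg G c := by
  rw [mem_Rg, u1_val, add_sub_cancel_left]; exact hc.self_mem

theorem commute_of_units {g : GL'} {c : End'} (hc : c * c = 0) (h : g * u1 c hc = u1 c hc * g) :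
    Commute (g : End') c := by
  have := congrArg (fun g : GL' => (g : End')) h
  simp only [Units.val_mul, u1_val, mul_add, add_mul, one_mul, mul_one] at this
  exact add_left_cancel this

/-- The pairs obtained from a pair fixed by the stabiliser of its component. -/
structure PairData (G R : Subgroup GL') (d : ℕ) (x z : End') : Prop where
  h3 : (3 : k) ≠ 0
  hs : QS G d
  hpa : Partners G d
  norm : R ≤ Subgroup.normalizer (G : Set GL')
  qx : Qd G d x
  qz : Qd G d z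
  pair : IsPair x z
  fix : ∀ s ∈ R, Con G d x (cj s x) → cj s x = x ∧ cj s z = z
  normal : ∀ c, Qd G d c → G ≤ Subgroup.normalizer (GP G d c : Set GL')
  cover : ∀ c, Qd G d c → G ≤ GP G d c ⊔ (G ⊓ Subgroup.centralizer (GP G d c : Set GL'))
  core : coreOf p G = ⊥
  hss : ∀ c, Qd G d c → ∀ W : Submodule k M, (∀ g ∈ GP G d c, ∀ v ∈ W, (g : End') v ∈ W) →
    ∃ W' : Submodule k M, (∀ g ∈ GP G d c, ∀ v ∈ W', (g : End') v ∈ W') ∧ IsCompl W W'

namespace PairData

variable (D : PairData G R d x z)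
include D

theorem qd {t : GL'} (ht : t ∈ R) : Qd G d (cj t x) ∧ Qd G d (cj t z) ∧ IsPair (cj t x) (cj t z) :=
  ⟨D.qx.cj (D.norm ht), D.qz.cj (D.norm ht),
    ⟨by rw [← cj_mul, D.pair.xx, map_zero], by rw [← cj_mul, D.pair.yy, map_zero],
      by rw [← cj_mul, ← cj_mul, D.pair.xyx, map_neg], by rw [← cj_mul, ← cj_mul, D.pair.yxy, map_neg]⟩⟩

theorem same {t r : GL'} (ht : t ∈ R) (hr : r ∈ R) (h : Con G d (cj t x) (cj r x)) :
    cj t x = cj r x ∧ cj t z = cj r z := by
  have h1 := h.cj (inv_mem (D.norm ht))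
  rw [cj_inv, cj_comp] at h1
  obtain ⟨e1, e2⟩ := D.fix _ (mul_mem (inv_mem ht) hr) h1
  constructor
  · conv_lhs => rw [← e1]
    rw [cj_comp, mul_inv_cancel_left]
  · conv_lhs => rw [← e2]
    rw [cj_comp, mul_inv_cancel_left]

theorem core_GP {c : End'} (hc : Qd G d c) : pCore p (GP G d c) = ⊥ :=
  pCore_eq_bot (le_bot_iff.1 ((coreOf_mono (GP_le_self c) (D.normal c hc)).trans D.core.le))

theorem frame {c e : End'} (hc : Qd G d c) (he : Qd G d e) (h : IsPair c e) : Frame (GP G d c) d c e :=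
  frame_GP D.hs D.hpa hc D.h3 (D.core_GP hc) he h (D.hss c hc)

/-- An element of one component and a root of another commute. -/
theorem centralises {t r : GL'} (ht : t ∈ R) (hr : r ∈ R) (hne : ¬ Con G d (cj t x) (cj r x)) {g : GL'}
    (hg : g ∈ GP G d (cj r x)) : ∀ f ∈ GP G d (cj t x), f * g = g * f := fun f hf =>
  (Subgroup.mem_centralizer_iff.1 ((Subgroup.commutator_eq_bot_iff_le_centralizer.1
    (GP_commute D.hs D.hpa (D.qd ht).1 (D.qd hr).1 hne)) hf) g hg).symm

theorem con_pair {t : GL'} (ht : t ∈ R) : Con G d (cj t x) (cj t z) :=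
  Con.of_opp (D.qd ht).1 (D.qd ht).2.1 (opp_of_pair D.hs (D.qd ht).1 (D.qd ht).2.1 (D.qd ht).2.2)

end PairData

/-- The common normaliser of the root groups of the pairs. -/
def rootsNormalizer (G R : Subgroup GL') (x : End') : Subgroup GL' :=
  G ⊓ ⨅ t : R, Subgroup.normalizer (Rg G (cj (t : GL') x) : Set GL')

theorem mem_rootsNormalizer (hs : QS G d) (hx : Qd G d x) (hRG : R ≤ Subgroup.normalizer (G : Set GL')) {g : GL'} :
    g ∈ rootsNormalizer G R x ↔ g ∈ G ∧ ∀ t ∈ R, cj g (cj t x) ∈ Rt G (cj t x) := by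
  rw [rootsNormalizer, Subgroup.mem_inf, Subgroup.mem_iInf]
  exact and_congr_right fun hg => ⟨fun h t ht => (mem_norm_iff hs (hx.cj (hRG ht)) hg).1 (h ⟨t, ht⟩),
    fun h t => (mem_norm_iff hs (hx.cj (hRG t.2)) hg).2 (h t t.2)⟩

/-- The common Levi subgroup of the pairs. -/
def leviAll (G R : Subgroup GL') (x z : End') : Subgroup GL' :=
  ⨅ t : R, Levi G (cj (t : GL') x) (cj (t : GL') z)

theorem cj_e₁ (g : GL') (u v : End') : cj g (e₁ u v) = e₁ (cj g u) (cj g v) := by
  rw [e₁, e₁, map_neg, cj_mul]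

theorem mem_leviAll {g : GL'} : g ∈ leviAll G R x z ↔ g ∈ G ∧ ∀ t ∈ R,
    cj g (e₁ (cj t x) (cj t z)) = e₁ (cj t x) (cj t z) ∧ cj g (e₁ (cj t z) (cj t x)) = e₁ (cj t z) (cj t x) := by
  rw [leviAll, Subgroup.mem_iInf]
  exact ⟨fun h => ⟨(h 1).1, fun t ht => ⟨cj_eq_of_commute (h ⟨t, ht⟩).2.1, cj_eq_of_commute (h ⟨t, ht⟩).2.2⟩⟩,
    fun h t => ⟨h.1, commute_of_cj (h.2 t t.2).1, commute_of_cj (h.2 t t.2).2⟩⟩

namespace PairData

variable (D : PairData G R d x z)
include D

theorem rootsNormalizer_inv : R ≤ Subgroup.normalizer (rootsNormalizer G R x : Set GL') := by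
  refine le_normalizer_of_conj fun s hs g hg => ?_
  rw [mem_rootsNormalizer D.hs D.qx D.norm] at hg ⊢
  refine ⟨(Subgroup.mem_normalizer_iff.1 (D.norm hs) g).1 hg.1, fun t ht => ?_⟩
  have h1 := cj_mem_Rt (D.qd (mul_mem (inv_mem hs) ht)).1.sq (hg.2 _ (mul_mem (inv_mem hs) ht)) (D.norm hs)
  rw [cj_comp, cj_comp, cj_comp, mul_inv_cancel_left] at h1
  rw [cj_comp]
  convert h1 using 3
  group

theorem leviAll_inv : R ≤ Subgroup.normalizer (leviAll G R x z : Set GL') := by
  refine le_normalizer_of_conj fun s hs g hg => ?_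
  rw [mem_leviAll] at hg ⊢
  refine ⟨(Subgroup.mem_normalizer_iff.1 (D.norm hs) g).1 hg.1, fun t ht => ?_⟩
  have e : ∀ c : End', cj (s * g * s⁻¹) (cj t c) = cj s (cj g (cj (s⁻¹ * t) c)) := fun c => by
    simp only [cj_comp, mul_assoc]
  have e' : ∀ c : End', cj t c = cj s (cj (s⁻¹ * t) c) := fun c => by
    rw [cj_comp, mul_inv_cancel_left]
  obtain ⟨h1, h2⟩ := hg.2 _ (mul_mem (inv_mem hs) ht)
  rw [cj_e₁] at h1 h2
  constructor
  · rw [cj_e₁, e, e, ← cj_e₁, h1, cj_e₁, ← e', ← e']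
  · rw [cj_e₁, e, e, ← cj_e₁, h2, cj_e₁, ← e', ← e']

/-- Some invariant Sylow subgroup of the common normaliser is one of the whole group. -/
theorem mem_rootsNormalizer_of_syl (hF : FlagInput p) (hI : Inp G R y) : y ∈ rootsNormalizer G R x := by
  set N := rootsNormalizer G R x with hN
  have hNG : N ≤ G := inf_le_left
  obtain ⟨T, hT⟩ := Solv.exists_isSylIn p N
  have hnorm : G ⊓ Subgroup.normalizer (T : Set GL') ≤ N := by
    rintro g ⟨hgG, hgT⟩
    rw [mem_rootsNormalizer D.hs D.qx D.norm]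
    refine ⟨hgG, fun r hr => ?_⟩
    set c := cj r x
    obtain ⟨qc, qe, hce⟩ := D.qd hr
    set Xr := GP G d c with hXr
    have F := D.frame qc qe hce
    -- the flag group of the component lies in the Sylow subgroup
    have hUN : flagOf Xr c ≤ N := by
      intro u hu
      rw [mem_rootsNormalizer D.hs D.qx D.norm]
      refine ⟨GP_le_self _ hu.1, fun t ht => ?_⟩
      by_cases h : Con G d (cj t x) c
      · rw [(D.same ht hr h).1, flagOf_fix hu]
        exact qc.self_mem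
      · have hcom := (D.centralises ht hr h hu.1 _ (Rg_le_GP Relation.ReflTransGen.refl (rg_u1 (D.qd ht).1))).symm
        rw [cj_eq_of_commute (commute_of_units _ hcom)]
        exact (D.qd ht).1.self_mem
    have hUn : N ≤ Subgroup.normalizer (flagOf Xr c : Set GL') := by
      refine le_normalizer_of_conj fun n hn u hu => ?_
      rw [mem_rootsNormalizer D.hs D.qx D.norm] at hn
      exact ⟨(Subgroup.mem_normalizer_iff.1 (D.normal c qc hn.1) u).1 hu.1,
        (flag_conj_rt D.hs qc hn.1 (hn.2 r hr) (show u ∈ flagOf G c from ⟨GP_le_self _ hu.1, hu.2⟩)).2⟩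
    have hUT : flagOf Xr c ≤ T := by
      rw [hT.eq_of_le (hT.isPGroup.to_sup_of_normal_right' (flagOf_pGroup Xr c) (hT.1.trans hUn))
        (sup_le hT.1 hUN) le_sup_left]
      exact le_sup_right
    set Tr := T ⊓ Xr
    have hTp : IsPGroup p Tr := hT.isPGroup.to_le inf_le_left
    have hu1 : u1 c qc.sq ∈ Tr := by
      have h1 : u1 c qc.sq ∈ flagOf Xr c := u1_mem_sup F F.ha.self_mem F.ha.sq
      exact ⟨hUT h1, h1.1⟩
    haveI : Nontrivial Tr := ⟨⟨⟨_, hu1⟩, 1, fun e => qc.ne (add_eq_left.1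
      ((u1_val c qc.sq).symm.trans ((congrArg (fun g : Tr => ((g : GL') : End')) e).trans Units.val_one)))⟩⟩
    haveI := hTp.center_nontrivial
    obtain ⟨⟨w, hw⟩, hw1⟩ := exists_ne (1 : Subgroup.center Tr)
    have inA : ∀ v : GL', v ∈ Tr → (∀ f ∈ Tr, v * f = f * v) → v ∈ Rg Xr c := fun v hv hvc => by
      obtain ⟨j, hj⟩ := hTp ⟨v, hv⟩
      exact center_le_root F (hF M Xr d c _ F) (D.core_GP qc) hv.2 ⟨j, congrArg Subtype.val hj⟩
        fun f hf => hvc f ⟨hUT hf, hf.1⟩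
    have hwc : ∀ f ∈ Tr, (w : GL') * f = f * w := fun f hf =>
      (congrArg Subtype.val (Subgroup.mem_center_iff.1 hw ⟨f, hf⟩)).symm
    have hgTr : ∀ h ∈ G, h ∈ Subgroup.normalizer (T : Set GL') → ∀ f ∈ Tr, h * f * h⁻¹ ∈ Tr := fun h hh hhT f hf =>
      ⟨(Subgroup.mem_normalizer_iff.1 hhT f).1 hf.1, (Subgroup.mem_normalizer_iff.1 (D.normal c qc hh) f).1 hf.2⟩
    have hw2 : g * (w : GL') * g⁻¹ ∈ Rg Xr c := by
      refine inA _ (hgTr g hgG hgT _ w.2) fun f hf => ?_
      have h1 := hwc _ (hgTr g⁻¹ (inv_mem hgG) (inv_mem hgT) f hf)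
      rw [inv_inv] at h1
      calc g * (w : GL') * g⁻¹ * f = g * ((w : GL') * (g⁻¹ * f * g)) * g⁻¹ := by group
        _ = g * ((g⁻¹ * f * g) * (w : GL')) * g⁻¹ := by rw [h1]
        _ = _ := by group
    have hw0 := inA (w : GL') w.2 hwc
    have toG : ∀ {v : GL'}, v ∈ Rg Xr c → (v : End') - 1 ∈ Rt G c := fun {v} hv =>
      mem_Rt (Rt_ker (mem_Rg.1 hv)) (Rt_range (mem_Rg.1 hv)) qc.sq ((Rt_fam (mem_Rg.1 hv)).mono (GP_le_self c))
    have h0 := toG hw0
    have hne : ((w : GL') : End') - 1 ≠ 0 := sub_ne_zero_of_ne_one fun e =>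
      hw1 (Subtype.ext (Subtype.ext e))
    have h1 : cj g (((w : GL') : End') - 1) ∈ Rt G c := by
      have e : cj g (((w : GL') : End') - 1) = ((g * (w : GL') * g⁻¹ : GL') : End') - 1 := by
        rw [cj_apply, Units.val_mul, Units.val_mul, mul_sub, sub_mul, mul_one, ← Units.val_mul g g⁻¹,
          mul_inv_cancel, Units.val_one]
      rw [e]; exact toG hw2
    have qw := (Rt_qd D.hs qc h0 hne).1
    have hgn := Subgroup.le_normalizer (H := G) hgG
    rw [← mem_norm_iff D.hs qc hgG]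
    refine conjBy_eq ?_
    rw [← Rg_congr (Rt_eq_of_mem D.hs qc h0 hne), conjBy_Rg qw.sq hgn,
      Rg_congr (Rt_eq_of_mem D.hs qc h1 (qw.cj hgn).ne), Rg_congr (Rt_eq_of_mem D.hs qc h0 hne)]
  -- growth
  obtain ⟨S, hS, hTS⟩ : ∃ S, Solv.IsSylIn p S G ∧ T ≤ S := by
    obtain ⟨Q, hQ⟩ := (hT.isPGroup.comap_subtype (K := G)).exists_le_sylow
    refine ⟨_, Solv.IsSylIn.of_sylow Q, ?_⟩
    rw [← Subgroup.map_subgroupOf_eq_of_le (hT.1.trans hNG)]
    exact Subgroup.map_mono hQ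
  have hTS' : T = S := by
    by_contra hne
    have hlt : T < S := lt_of_le_of_ne hTS hne
    haveI : Group.IsNilpotent S := hS.isPGroup.isNilpotent
    obtain ⟨g, hgN, hgT⟩ := SetLike.exists_of_lt (Group.normalizerCondition_of_isNilpotent (G := S) (T.subgroupOf S)
      (lt_top_iff_ne_top.2 fun h => hlt.not_ge (Subgroup.subgroupOf_eq_top.1 h)))
    have hgn : (g : GL') ∈ Subgroup.normalizer (T : Set GL') := by
      refine Subgroup.mem_normalizer_iff.2 fun f => ⟨fun hf => ?_, fun hf => ?_⟩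
      · exact (Subgroup.mem_normalizer_iff.1 hgN ⟨f, hTS hf⟩).1 hf
      · have hfS : f ∈ S := by
          have := S.mul_mem (S.mul_mem (S.inv_mem g.2) (hTS hf)) g.2
          simpa [mul_assoc] using this
        exact (Subgroup.mem_normalizer_iff.1 hgN ⟨f, hfS⟩).2 hf
    refine hgT ?_
    have h1 : T ⊔ Subgroup.zpowers (g : GL') ≤ S := sup_le hTS (Subgroup.zpowers_le.2 g.2)
    rw [Subgroup.mem_subgroupOf, hT.eq_of_le (hS.isPGroup.to_le h1)
      (sup_le hT.1 (Subgroup.zpowers_le.2 (hnorm ⟨hS.1 g.2, hgn⟩))) le_sup_left]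
    exact Subgroup.mem_sup_right (Subgroup.mem_zpowers _)
  have hRN := D.rootsNormalizer_inv
  have hcoN := hI.co.coprime_dvd_left (Subgroup.card_dvd_of_le hNG)
  obtain ⟨S', hS', hS'R⟩ := Solv.exists_invariant_sylow hRN hcoN.symm (EquivZJ.solvable_or hcoN.symm) p
  have hS'G : Solv.IsSylIn p S' G := ⟨hS'.1.trans hNG, by rw [hS'.2, ← hT.2, hTS', hS.2]⟩
  exact hS'.1 (hI.syl S' hS'G hS'R)

theorem symm : PairData G R d z x where
  h3 := D.h3
  hs := D.hs
  hpa := D.hpa
  norm := D.norm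
  qx := D.qz
  qz := D.qx
  pair := D.pair.symm
  fix := fun s hs h => by
    have hxz : Con G d x z := Con.of_opp D.qx D.qz (opp_of_pair D.hs D.qx D.qz D.pair)
    exact (D.fix s hs ((hxz.trans h).trans (hxz.cj (D.norm hs)).symm)).symm
  normal := D.normal
  cover := D.cover
  core := D.core
  hss := D.hss

/-- The element lies in the common Levi subgroup. -/
theorem mem_leviAll_of_syl (hF : FlagInput p) (hI : Inp G R y) : y ∈ leviAll G R x z := by
  obtain ⟨-, hx⟩ := (mem_rootsNormalizer D.hs D.qx D.norm).1 (D.mem_rootsNormalizer_of_syl hF hI)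
  obtain ⟨-, hz⟩ := (mem_rootsNormalizer D.hs D.qz D.norm).1 (D.symm.mem_rootsNormalizer_of_syl hF hI)
  rw [mem_leviAll]
  refine ⟨hI.mem, fun t ht => ?_⟩
  obtain ⟨qc, qe, hce⟩ := D.qd ht
  have F := D.frame qc qe hce
  have hy := Subgroup.le_normalizer (H := G) hI.mem
  have m1 : cj y (cj t x) ∈ Rt (GP G d (cj t x)) (cj t x) :=
    mem_Rt (Rt_ker (hx t ht)) (Rt_range (hx t ht)) qc.sq
      (rt_GP D.hs D.hpa qc Relation.ReflTransGen.refl (hx t ht))
  have m2 : cj y (cj t z) ∈ Rt (GP G d (cj t x)) (cj t z) :=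
    mem_Rt (Rt_ker (hz t ht)) (Rt_range (hz t ht)) qe.sq
      (rt_GP D.hs D.hpa qc (D.con_pair ht) (hz t ht))
  rw [cj_e₁, cj_e₁]
  exact e₁_eq F m1 m2 (qc.cj hy).ne
    ⟨by rw [← cj_mul, hce.xx, map_zero], by rw [← cj_mul, hce.yy, map_zero],
      by rw [← cj_mul, ← cj_mul, hce.xyx, map_neg], by rw [← cj_mul, ← cj_mul, hce.yxy, map_neg]⟩

/-- An element of all invariant Sylow subgroups centralises the component. -/
theorem centralises_GP (hL : LeviInput p) (hF : FlagInput p) (hI : Inp G R y)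
    (hB : Below p (Nat.card G + Module.finrank k M)) : y ∈ Subgroup.centralizer (GP G d x : Set GL') := by
  set L := leviAll G R x z with hLdef
  have hLG : L ≤ G := fun g hg => (mem_leviAll.1 hg).1
  have hne : L ≠ G := by
    intro e
    have h1 : u1 x D.qx.sq ∈ L := by rw [e]; exact Rg_le x (rg_u1 D.qx)
    have h2 := commute_of_cj (((mem_leviAll.1 h1).2 1 (one_mem R)).1)
    rw [cj_one, cj_one] at h2
    have h3 := h2.eq
    simp only [u1_val, add_mul, mul_add, one_mul, mul_one, x_e₁ D.pair, e₁_x D.pair, add_right_inj] at h3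
    exact D.qx.ne h3.symm
  have hyQ : y ∈ coreOf p L := hI.mem_core_of_lt hB hLG hne D.leviAll_inv (D.mem_leviAll_of_syl hF hI)
  set X := GP G d x with hX
  set C := G ⊓ Subgroup.centralizer (X : Set GL') with hC
  set Q := coreOf p L
  have hXG : X ≤ G := GP_le_self x
  have hCn : G ≤ Subgroup.normalizer (C : Set GL') := le_normalizer_of_conj fun g hg c hc => by
    refine ⟨G.mul_mem (G.mul_mem hg hc.1) (G.inv_mem hg), Subgroup.mem_centralizer_iff.2 fun f hf => ?_⟩
    have hf' := (Subgroup.mem_normalizer_iff.1 (D.normal x D.qx (inv_mem hg)) f).1 hf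
    have h1 := congrArg (fun t => g * t * g⁻¹) (Subgroup.mem_centralizer_iff.1 hc.2 _ hf')
    simpa [mul_assoc] using h1
  have hQG : Q ≤ G := (coreOf_le L).trans hLG
  set P₁ := X ⊓ (Q ⊔ C) with hP₁
  have hxz : Con G d x z := Con.of_opp D.qx D.qz (opp_of_pair D.hs D.qx D.qz D.pair)
  have cC : ∀ c ∈ C, Commute (c : End') (e₁ x z) ∧ Commute (c : End') (e₁ z x) := fun c hc => by
    have h1 := commute_of_units D.qx.sq (Subgroup.mem_centralizer_iff.1 hc.2 _
      (Rg_le_GP Relation.ReflTransGen.refl (rg_u1 D.qx))).symm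
    have h2 := commute_of_units D.qz.sq (Subgroup.mem_centralizer_iff.1 hc.2 _
      (Rg_le_GP hxz (rg_u1 D.qz))).symm
    exact ⟨(h1.mul_right h2).neg_right, (h2.mul_right h1).neg_right⟩
  have hPL : P₁ ≤ Levi X x z := by
    rintro v ⟨hvX, hv⟩
    obtain ⟨q, hq, c, hc, rfl⟩ := Fusion.exists_mul_of_mem_sup (hQG.trans hCn) hv
    have hq' := (mem_leviAll.1 (coreOf_le L hq)).2 1 (one_mem R)
    rw [cj_one, cj_one] at hq'
    exact ⟨hvX, by rw [Units.val_mul]; exact (commute_of_cj hq'.1).mul_left (cC c hc).1,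
      by rw [Units.val_mul]; exact (commute_of_cj hq'.2).mul_left (cC c hc).2⟩
  have hLX : Levi X x z ≤ L := fun l hl => by
    rw [mem_leviAll]
    refine ⟨hXG hl.1, fun t ht => ?_⟩
    by_cases h : Con G d (cj t x) (cj (1 : GL') x)
    · obtain ⟨e1, e2⟩ := D.same ht (one_mem R) h
      rw [e1, e2, cj_one, cj_one]
      exact ⟨cj_eq_of_commute hl.2.1, cj_eq_of_commute hl.2.2⟩
    · have hl' : l ∈ GP G d (cj (1 : GL') x) := by rw [cj_one]; exact hl.1
      have k1 := commute_of_units (D.qd ht).1.sq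
        (D.centralises ht (one_mem R) h hl' _ (Rg_le_GP Relation.ReflTransGen.refl (rg_u1 (D.qd ht).1))).symm
      have k2 := commute_of_units (D.qd ht).2.1.sq
        (D.centralises ht (one_mem R) h hl' _ (Rg_le_GP (D.con_pair ht) (rg_u1 (D.qd ht).2.1))).symm
      exact ⟨cj_eq_of_commute (k1.mul_right k2).neg_right, cj_eq_of_commute (k2.mul_right k1).neg_right⟩
  have hPn : Levi X x z ≤ Subgroup.normalizer (P₁ : Set GL') := le_normalizer_of_conj fun l hl v hv => by
    refine ⟨X.mul_mem (X.mul_mem hl.1 hv.1) (X.inv_mem hl.1), ?_⟩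
    obtain ⟨q, hq, c, hc, rfl⟩ := Fusion.exists_mul_of_mem_sup (hQG.trans hCn) hv.2
    rw [show l * (q * c) * l⁻¹ = (l * q * l⁻¹) * (l * c * l⁻¹) by group]
    exact Subgroup.mul_mem_sup
      ((Subgroup.mem_normalizer_iff.1 (coreOf_normalized Subgroup.le_normalizer (hLX hl)) q).1 hq)
      ((Subgroup.mem_normalizer_iff.1 (hCn (hXG hl.1)) c).1 hc)
  have hcore : coreOf p P₁ = ⊥ := hL M X d x z (D.frame D.qx D.qz D.pair) _ ((coreOf_le P₁).trans hPL)
    (coreOf_isPGroup P₁) (coreOf_normalized hPn)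
  -- the group is a central extension of a `p`-group
  haveI : (C.subgroupOf G).Normal := Subgroup.normal_subgroupOf_of_le_normalizer hCn
  have hPG : P₁ ≤ G := inf_le_left.trans hXG
  set φ : P₁ →* G ⧸ C.subgroupOf G := (QuotientGroup.mk' _).comp (Subgroup.inclusion hPG)
  have hker : ∀ v : P₁, φ v = 1 ↔ (v : GL') ∈ C := fun v => QuotientGroup.eq_one_iff _
  have hφp : ∀ v : P₁, ∃ j : ℕ, φ v ^ p ^ j = 1 := by
    rintro ⟨v, hv⟩
    obtain ⟨q, hq, c, hc, he⟩ := Fusion.exists_mul_of_mem_sup (hQG.trans hCn) hv.2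
    obtain ⟨j, hj⟩ := coreOf_isPGroup (p := p) L ⟨q, hq⟩
    refine ⟨j, ?_⟩
    have e : φ ⟨v, hv⟩ = QuotientGroup.mk' (C.subgroupOf G) ⟨q, hQG hq⟩ := by
      show QuotientGroup.mk' (C.subgroupOf G) ⟨v, hPG hv⟩ = _
      rw [QuotientGroup.mk'_eq_mk']
      refine ⟨⟨c⁻¹, hc.1 |> inv_mem⟩, inv_mem hc, Subtype.ext ?_⟩
      show v * c⁻¹ = q
      rw [← he, mul_inv_cancel_right]
    rw [e, ← map_pow, show (⟨q, hQG hq⟩ : G) ^ p ^ j = 1 from Subtype.ext (congrArg Subtype.val hj :), map_one]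
  haveI : Group.IsNilpotent φ.range := IsPGroup.isNilpotent (p := p) (by
    rintro ⟨_, v, rfl⟩
    obtain ⟨j, hj⟩ := hφp v
    exact ⟨j, Subtype.ext hj⟩)
  haveI : Group.IsNilpotent P₁ := Subgroup.isNilpotent_of_ker_le_center φ.rangeRestrict fun v hv => by
    rw [MonoidHom.ker_rangeRestrict] at hv
    refine Subgroup.mem_center_iff.2 fun w => Subtype.ext ?_
    exact Subgroup.mem_centralizer_iff.1 ((hker v).1 hv).2 _ w.2.1
  have hdvd : ¬ p ∣ Nat.card P₁ := by
    obtain ⟨T⟩ : Nonempty (Sylow p P₁) := inferInstance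
    have hT1 : (T : Subgroup P₁) = ⊥ := le_bot_iff.1
      ((Fusion.le_pCore T.isPGroup').trans (pCore_eq_bot hcore).le)
    have := T.not_dvd_index
    rwa [hT1, Subgroup.index_bot] at this
  have hP₁C : ∀ v ∈ P₁, v ∈ C := fun v hv => by
    obtain ⟨j, hj⟩ := hφp ⟨v, hv⟩
    refine (hker ⟨v, hv⟩).1 (orderOf_eq_one_iff.1 ?_)
    exact Nat.eq_one_of_dvd_coprimes (((Nat.Prime.coprime_iff_not_dvd hp.out).2 hdvd).pow_left j)
      (orderOf_dvd_of_pow_eq_one hj) ((orderOf_map_dvd φ _).trans (orderOf_dvd_natCard _))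
  obtain ⟨v, hv, c, hc, he⟩ := Fusion.exists_mul_of_mem_sup (hXG.trans hCn) (D.cover x D.qx hI.mem)
  have hvP : v ∈ P₁ := ⟨hv, by
    rw [show v = y * c⁻¹ by rw [← he, mul_inv_cancel_right]]
    exact Subgroup.mul_mem_sup hyQ (inv_mem hc)⟩
  rw [← he]
  exact mul_mem (hP₁C v hvP).2 hc.2

end PairData

end Cfsg.Agent.EquivParabolic
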