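import Cfsg.Prelude.Def_RootSubgroups
import Cfsg.Agent.Lib.Solv.Coprime

/-!
# The linear input of the equivariant K-infinity theorem
-/

set_option autoImplicit false

namespace Cfsg.Agent.EquivParabolic

open Cfsg

/-- A quadratic element lying in all the invariant Sylow subgroups lies in the largest normal
`p`-subgroup, for a linear group with coprime operators. -/
def LinearCore (p : ℕ) [Fact p.Prime] : Prop :=
  ∀ (M : Type) [AddCommGroup M] [Module (ZMod p) M] [Module.Finite (ZMod p) M]
    (G R : Subgroup (LinearMap.GeneralLinearGroup (ZMod p) M))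
    (y : LinearMap.GeneralLinearGroup (ZMod p) M),
    R ≤ Subgroup.normalizer (G : Set (LinearMap.GeneralLinearGroup (ZMod p) M)) →
    (Nat.card G).Coprime (Nat.card R) → y ∈ G →
    ((y : Module.End (ZMod p) M) - 1) * ((y : Module.End (ZMod p) M) - 1) = 0 →
    (∀ S : Subgroup (LinearMap.GeneralLinearGroup (ZMod p) M), Solv.IsSylIn p S G →
      R ≤ Subgroup.normalizer (S : Set (LinearMap.GeneralLinearGroup (ZMod p) M)) → y ∈ S) →
    y ∈ (Cfsg.pCore p G).map G.subtype

end Cfsg.Agent.EquivParabolic
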